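import Groth.Agent.Misc3Fitt.Props
import Mathlib.RingTheory.LocalRing.ResidueField.Ideal
import Mathlib.RingTheory.Localization.AtPrime.Basic
import Mathlib.RingTheory.Localization.Finiteness
import Mathlib.LinearAlgebra.Dimension.Free
import Mathlib.LinearAlgebra.FiniteDimensional.Lemmas

/-!
# The loci of the Fitting ideals
-/

set_option autoImplicit false

universe u v

namespace Groth.Misc3Fitt

open TensorProduct

variable {R : Type u} [CommRing R] {M : Type v} [AddCommGroup M] [Module R M] [Module.Finite R M] {k : ℕ}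

theorem map_eq_top_iff_of_atPrime (p : Ideal R) [p.IsPrime] (I : Ideal R) :
    I.map (algebraMap R (Localization.AtPrime p)) = ⊤ ↔ ¬ I ≤ p := by
  rw [← not_iff_not, not_not, ← ne_eq,
    IsLocalization.map_algebraMap_ne_top_iff_disjoint p.primeCompl]
  rw [Ideal.primeCompl, Set.disjoint_iff]
  exact ⟨fun h x hx => by_contra fun hxp => h ⟨hxp, hx⟩, fun h x hx => hx.1 (h hx.2)⟩

theorem not_le_prime_iff_finrank (p : Ideal R) [p.IsPrime] :
    ¬ Fitt.ideal R M k ≤ p ↔ Module.finrank p.ResidueField (p.ResidueField ⊗[R] M) ≤ k := by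
  have h := ideal_baseChange (R := R) (M := M) (A := p.ResidueField) k
  rw [ideal_of_basis (Module.finBasis p.ResidueField (p.ResidueField ⊗[R] M))] at h
  have hiff : (Fitt.ideal R M k).map (algebraMap R p.ResidueField) = ⊥ ↔ Fitt.ideal R M k ≤ p := by
    rw [Ideal.map_eq_bot_iff_le_ker, Ideal.ker_algebraMap_residueField]
  rw [← hiff, ← h]
  split_ifs with hk <;> simp [hk]

theorem not_le_prime_iff_exists_span_atPrime (p : Ideal R) [p.IsPrime] :
    ¬ Fitt.ideal R M k ≤ p ↔
      ∃ g : Fin k → LocalizedModule p.primeCompl M, Submodule.span (Localization.AtPrime p) (Set.range g) = ⊤ := by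
  haveI : Module.Finite (Localization.AtPrime p) (LocalizedModule p.primeCompl M) :=
    Module.Finite.of_isLocalizedModule p.primeCompl (LocalizedModule.mkLinearMap p.primeCompl M)
  rw [← map_eq_top_iff_of_atPrime p, ← ideal_localized]
  exact ⟨exists_span_of_fitt_eq_top_of_local, fun ⟨g, hg⟩ => ideal_eq_top_of_span g hg le_rfl⟩

theorem not_le_of_map_away_eq_top {p : Ideal R} [hp : p.IsPrime] {f : R} (hf : f ∉ p) {I : Ideal R}
    (h : I.map (algebraMap R (Localization.Away f)) = ⊤) : ¬ I ≤ p := fun hI =>
  ((IsLocalization.map_algebraMap_ne_top_iff_disjoint (Submonoid.powers f) (Localization.Away f) p).2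
    (Set.disjoint_left.2 fun _ ⟨n, hn⟩ hxp => hf (hp.mem_of_pow_mem n (show f ^ n ∈ p from (show f ^ n = _ from hn) ▸ hxp))))
    (eq_top_iff.2 (h.ge.trans (Ideal.map_mono hI)))

theorem not_le_prime_iff_exists_span_away (p : Ideal R) [hp : p.IsPrime] :
    ¬ Fitt.ideal R M k ≤ p ↔ ∃ f : R, f ∉ p ∧
      ∃ g : Fin k → LocalizedModule (Submonoid.powers f) M,
        Submodule.span (Localization.Away f) (Set.range g) = ⊤ := by
  constructor
  · intro h
    obtain ⟨n, x, a, hx, ha, hd⟩ : ∃ (n : ℕ) (x : Fin n → M) (a : Matrix (Fin n) (Fin n) R),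
        Submodule.span R (Set.range x) = ⊤ ∧ (∀ i : Fin n, (i : ℕ) < n - k → ∑ j, a i j • x j = 0) ∧
          a.det ∉ p := by
      by_contra hne
      push Not at hne
      refine h (Ideal.span_le.2 ?_)
      rintro _ ⟨n, x, a, hx, ha, rfl⟩
      exact hne n x a hx ha
    refine ⟨a.det, hd, ?_⟩
    let μ := LocalizedModule.mkLinearMap (Submonoid.powers a.det) M
    have hμ : Submodule.span (Localization.Away a.det) (Set.range (μ ∘ x)) = ⊤ := by
      rw [Set.range_comp]
      exact span_eq_top_of_isLocalizedModule (Localization.Away a.det) (Submonoid.powers a.det) μ hx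
    refine exists_span_of_isUnit_det (μ ∘ x) hμ (a.map (algebraMap R (Localization.Away a.det)))
      (fun i hi => ?_) ?_
    · simp only [Matrix.map_apply, Function.comp_apply, algebraMap_smul, ← map_smul, ← map_sum, ha i hi, map_zero]
    · rw [← RingHom.mapMatrix_apply, ← RingHom.map_det]
      exact IsLocalization.Away.algebraMap_isUnit a.det
  · rintro ⟨f, hf, g, hg⟩
    refine not_le_of_map_away_eq_top hf ?_
    rw [← ideal_localized]
    exact ideal_eq_top_of_span g hg le_rfl

theorem nontrivial_away {p : Ideal R} [hp : p.IsPrime] {f : R} (hf : f ∉ p) :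
    Nontrivial (Localization.Away f) := by
  refine (subsingleton_or_nontrivial _).resolve_left fun h => ?_
  obtain ⟨n, hn⟩ := (IsLocalization.subsingleton_iff (S := Localization.Away f) (M := Submonoid.powers f)).1 h
  exact hf (hp.mem_of_pow_mem n ((show f ^ n = 0 from hn) ▸ p.zero_mem))

theorem locallyFree_rank_iff (r : ℕ) :
    (∀ (p : Ideal R) [p.IsPrime], ∃ f : R, f ∉ p ∧
      Module.Free (Localization.Away f) (LocalizedModule (Submonoid.powers f) M) ∧
        Module.finrank (Localization.Away f) (LocalizedModule (Submonoid.powers f) M) = r) ↔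
    ((∀ k, k < r → Fitt.ideal R M k = ⊥) ∧ (∀ k, r ≤ k → Fitt.ideal R M k = ⊤)) := by
  constructor
  · intro h
    have key : ∀ (p : Ideal R) [p.IsPrime], ∃ f : R, f ∉ p ∧
        ∀ k, (Fitt.ideal R M k).map (algebraMap R (Localization.Away f)) = if r ≤ k then ⊤ else ⊥ := by
      intro p _
      obtain ⟨f, hf, hfree, hr⟩ := h p
      refine ⟨f, hf, fun k => ?_⟩
      haveI := nontrivial_away hf
      haveI := hfree
      haveI : Module.Finite (Localization.Away f) (LocalizedModule (Submonoid.powers f) M) :=
        Module.Finite.of_isLocalizedModule (Submonoid.powers f) (LocalizedModule.mkLinearMap _ M)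
      rw [← ideal_localized, ideal_of_basis (Module.finBasisOfFinrankEq _ _ hr)]
    refine ⟨fun k hk => ?_, fun k hk => ?_⟩
    · rw [eq_bot_iff]
      intro a ha
      by_contra hne
      let J : Ideal R := Submodule.colon ⊥ {a}
      have hJ : J ≠ ⊤ := fun e => hne (by
        have h1 : (1 : R) ∈ J := e ▸ Submodule.mem_top
        simpa [J, Submodule.mem_colon] using h1)
      obtain ⟨m, hm, hJm⟩ := Ideal.exists_le_maximal J hJ
      obtain ⟨f, hf, hk'⟩ := key m
      have h0 := hk' k
      rw [if_neg (not_le.2 hk)] at h0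
      have : algebraMap R (Localization.Away f) a = 0 := (Submodule.eq_bot_iff _).1 h0 _ (Ideal.mem_map_of_mem _ ha)
      obtain ⟨⟨_, n, rfl⟩, hn⟩ := (IsLocalization.map_eq_zero_iff (Submonoid.powers f) _ _).1 this
      exact hf (hm.isPrime.mem_of_pow_mem n (hJm (by simpa [J, Submodule.mem_colon] using hn)))
    · by_contra hne
      obtain ⟨m, hm, hIm⟩ := Ideal.exists_le_maximal _ hne
      obtain ⟨f, hf, hk'⟩ := key m
      exact not_le_of_map_away_eq_top hf ((hk' k).trans (if_pos hk)) hIm
  · rintro ⟨h0, h1⟩ p _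
    obtain ⟨f, hf, g, hg⟩ := (not_le_prime_iff_exists_span_away (M := M) p (k := r)).1 fun hle =>
      Ideal.IsPrime.ne_top ‹_› (top_le_iff.1 ((h1 r le_rfl).ge.trans hle))
    haveI := nontrivial_away hf
    have hli : LinearIndependent (Localization.Away f) g := by
      rw [Fintype.linearIndependent_iff]
      intro c hc i
      have hr : 0 < r := Fin.pos i
      have hbot : fitt (R := Localization.Away f) g (r - 1) = ⊥ := by
        haveI : Module.Finite (Localization.Away f) (LocalizedModule (Submonoid.powers f) M) :=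
          Module.Finite.of_isLocalizedModule (Submonoid.powers f) (LocalizedModule.mkLinearMap _ M)
        rw [← ideal_eq_fitt g hg, ideal_localized, h0 _ (by omega), Ideal.map_bot]
      have h2 : minor (fun _ : Fin 1 => i) (fun _ => c) ∈ fitt (R := Localization.Away f) g (r - 1) := by
        rw [fitt, show r - (r - 1) = 1 by omega]
        exact minor_mem _ fun _ => mem_rel.2 hc
      rw [hbot, Ideal.mem_bot] at h2
      simpa [minor] using h2
    let b := Module.Basis.mk hli hg.ge
    exact ⟨f, hf, Module.Free.of_basis b, by rw [Module.finrank_eq_card_basis b, Fintype.card_fin]⟩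

end Groth.Misc3Fitt
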