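import Groth.Agent.Misc3Fitt.Props
import Mathlib.LinearAlgebra.Prod

/-!
# The Fitting ideals of a direct sum
-/

set_option autoImplicit false

universe u v w

namespace Groth.Misc3Fitt

open Matrix

variable {R : Type u} [CommRing R]

theorem minors_eq_bot_of_lt {n p : ℕ} (K : Submodule R (Fin n → R)) (h : n < p) : minors K p = ⊥ := by
  rw [eq_bot_iff, minors_le_iff]
  intro z e _
  obtain ⟨i, j, hne, hij⟩ := Fintype.exists_ne_map_eq_of_card_lt e (by simpa using h)
  rw [Ideal.mem_bot, ← minor_transpose]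
  exact Matrix.det_zero_of_row_eq hne (by funext b; simp [hij])

variable {n n' : ℕ}

theorem append_split (u : Fin (n + n') → R) :
    u = Fin.append (fun i => u (Fin.castAdd n' i)) (0 : Fin n' → R) +
      Fin.append (0 : Fin n → R) (fun j => u (Fin.natAdd n j)) := by
  funext i
  refine Fin.addCases (fun a => ?_) (fun b => ?_) i <;> simp

theorem minor_split (K : Submodule R (Fin n → R)) (L : Submodule R (Fin n' → R)) {m : ℕ}
    (e : Fin m → Fin (n + n')) (v : Fin m → Fin (n + n') → R)
    (hv : ∀ b, (∃ c ∈ K, v b = Fin.append c 0) ∨ (∃ d ∈ L, v b = Fin.append 0 d)) :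
    ∃ p q, p + q = m ∧ minor e v ∈ minors K p * minors L q := by
  classical
  let M : Matrix (Fin m) (Fin m) R := Matrix.of fun b a => v b (e a)
  let S : Fin m → Prop := fun b => ∃ c ∈ K, v b = Fin.append c 0
  let T : Fin m → Prop := fun a => (e a : ℕ) < n
  have hz : ∀ b a, (S b ∧ ¬T a) ∨ (¬S b ∧ T a) → v b (e a) = 0 := by
    rintro b a (⟨⟨c, -, hc⟩, ha⟩ | ⟨hb, ha⟩)
    · obtain ⟨j, hj⟩ : ∃ j : Fin n', e a = Fin.natAdd n j := by
        refine ⟨⟨(e a : ℕ) - n, ?_⟩, Fin.ext ?_⟩
        · have := (e a).2; simp only [T] at ha; omega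
        · simp only [T] at ha; simp; omega
      rw [hc, hj, Fin.append_right]; rfl
    · obtain ⟨d, -, hd⟩ := (hv b).resolve_left hb
      obtain ⟨i, hi⟩ : ∃ i : Fin n, e a = Fin.castAdd n' i := ⟨⟨e a, ha⟩, rfl⟩
      rw [hd, hi, Fin.append_left]; rfl
  by_cases hcard : Fintype.card {b // S b} = Fintype.card {a // T a}
  · let π : Equiv.Perm (Fin m) := (Fintype.equivOfCardEq hcard).extendSubtype
    have hπ1 : ∀ b, S b → T (π b) := fun b hb => Equiv.extendSubtype_mem _ b hb
    have hπ2 : ∀ b, ¬S b → ¬T (π b) := fun b hb => Equiv.extendSubtype_not_mem _ b hb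
    refine ⟨Fintype.card {b // S b}, Fintype.card {b // ¬S b}, ?_, ?_⟩
    · rw [Fintype.card_subtype_compl, Nat.add_sub_cancel' (Fintype.card_subtype_le _), Fintype.card_fin]
    · have hdet : minor e v = (Equiv.Perm.sign π : R) * (M.submatrix id π).det := by
        rw [Matrix.det_permute', ← mul_assoc, ← Int.cast_mul, ← Units.val_mul, Int.units_mul_self]
        simp [minor, M]
      rw [hdet, Matrix.twoBlockTriangular_det (M.submatrix id π) S
        (fun i hi j hj => hz i (π j) (Or.inr ⟨hi, hπ1 j hj⟩))]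
      refine Ideal.mul_mem_left _ _ (Ideal.mul_mem_mul ?_ ?_)
      · choose c hc hcv using fun b : {b // S b} => b.2
        have := minor_mem_of_equiv (K := K) (α := {b // S b}) rfl
          (fun b => (⟨e (π b.1), hπ1 b.1 b.2⟩ : Fin n)) hc
        refine cast (congrArg (· ∈ _) ?_) this
        rw [minor]
        congr 1
        ext b a
        show c b ⟨e (π a.1), _⟩ = v b.1 (e (π a.1))
        exact ((congrFun (hcv b) (e (π a.1))).trans (Fin.append_left (c b) 0 ⟨e (π a.1), hπ1 a.1 a.2⟩)).symm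
      · choose d hd hdv using fun b : {b // ¬S b} => (hv b.1).resolve_left b.2
        have hlt : ∀ b : {b // ¬S b}, (e (π b.1) : ℕ) - n < n' := fun b => by
          have h1 := (e (π b.1)).2
          have h2 := hπ2 b.1 b.2
          simp only [T] at h2
          omega
        have := minor_mem_of_equiv (K := L) (α := {b // ¬S b}) rfl
          (fun b => (⟨(e (π b.1) : ℕ) - n, hlt b⟩ : Fin n')) hd
        refine cast (congrArg (· ∈ _) ?_) this
        rw [minor]
        congr 1
        ext b a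
        show d b ⟨(e (π a.1) : ℕ) - n, _⟩ = v b.1 (e (π a.1))
        have h2 := hπ2 a.1 a.2
        simp only [T] at h2
        have : e (π a.1) = Fin.natAdd n ⟨(e (π a.1) : ℕ) - n, hlt a⟩ := Fin.ext (by simp; omega)
        rw [hdv b]
        conv_rhs => rw [this, Fin.append_right]
  · refine ⟨0, m, zero_add m, ?_⟩
    suffices minor e v = 0 by rw [this]; exact zero_mem _
    rw [minor, Matrix.det_apply]
    refine Finset.sum_eq_zero fun σ _ => smul_eq_zero_of_right _ ?_
    obtain ⟨a, ha⟩ : ∃ a, ¬(S (σ a) ↔ T a) := by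
      by_contra hne
      push Not at hne
      exact hcard (Fintype.card_congr (σ.subtypeEquiv fun a => (hne a).symm)).symm
    refine Finset.prod_eq_zero (Finset.mem_univ a) ?_
    show v (σ a) (e a) = 0
    refine hz _ _ ?_
    by_cases h1 : S (σ a) <;> by_cases h2 : T a
    · exact (ha (iff_of_true h1 h2)).elim
    · exact Or.inl ⟨h1, h2⟩
    · exact Or.inr ⟨h1, h2⟩
    · exact (ha (iff_of_false h1 h2)).elim

theorem minor_mul_mem (K : Submodule R (Fin n → R)) (L : Submodule R (Fin n' → R)) {p q : ℕ}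
    (e : Fin p → Fin n) (e' : Fin q → Fin n') (z : Fin p → Fin n → R) (z' : Fin q → Fin n' → R)
    (hz : ∀ b, z b ∈ K) (hz' : ∀ b, z' b ∈ L) (W : Submodule R (Fin (n + n') → R))
    (hW1 : ∀ c ∈ K, Fin.append c (0 : Fin n' → R) ∈ W) (hW2 : ∀ d ∈ L, Fin.append (0 : Fin n → R) d ∈ W) :
    minor e z * minor e' z' ∈ minors W (p + q) := by
  classical
  have h := minor_mem_of_equiv (K := W) (α := Fin p ⊕ Fin q) (m := p + q) (by simp)
    (z := Sum.elim (fun b => Fin.append (z b) (0 : Fin n' → R)) fun b => Fin.append (0 : Fin n → R) (z' b))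
    (Sum.elim (fun a => Fin.castAdd n' (e a)) fun a => Fin.natAdd n (e' a))
    (fun b => by cases b <;> simp [hW1 _ (hz _), hW2 _ (hz' _)])
  refine cast (congrArg (· ∈ _) ?_) h
  rw [minor, minor, minor, ← Matrix.det_fromBlocks_zero₂₁ (Matrix.of fun b a => z b (e a)) 0]
  congr 1
  ext (b | b) (a | a) <;> simp

variable {M : Type v} {M' : Type w} [AddCommGroup M] [Module R M] [AddCommGroup M'] [Module R M']

theorem ideal_prod [Module.Finite R M] [Module.Finite R M'] (l : ℕ) :
    Fitt.ideal R (M × M') l = ∑ k ∈ Finset.range (l + 1), Fitt.ideal R M k * Fitt.ideal R M' (l - k) := by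
  obtain ⟨n, x, hx⟩ := Module.Finite.exists_fin (R := R) (M := M)
  obtain ⟨n', y, hy⟩ := Module.Finite.exists_fin (R := R) (M := M')
  let w : Fin (n + n') → M × M' := Fin.append (fun i => (x i, 0)) fun j => (0, y j)
  have hsum : ∀ u : Fin (n + n') → R,
      ∑ i, u i • w i = (∑ i, u (Fin.castAdd n' i) • x i, ∑ j, u (Fin.natAdd n j) • y j) := fun u => by
    rw [Fin.sum_univ_add]
    ext <;> simp [w, Prod.fst_sum, Prod.snd_sum]
  have hw : Submodule.span R (Set.range w) = ⊤ := by
    rw [eq_top_iff]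
    rintro ⟨a, b⟩ -
    obtain ⟨c, rfl⟩ := (Submodule.mem_span_range_iff_exists_fun R).1 (hx ▸ Submodule.mem_top : a ∈ _)
    obtain ⟨d, rfl⟩ := (Submodule.mem_span_range_iff_exists_fun R).1 (hy ▸ Submodule.mem_top : b ∈ _)
    exact (Submodule.mem_span_range_iff_exists_fun R).2 ⟨Fin.append c d, by rw [hsum]; simp⟩
  have hK : ∀ c ∈ rel (R := R) x, Fin.append c (0 : Fin n' → R) ∈ rel (R := R) w := fun c hc => by
    rw [mem_rel, hsum]; simp [mem_rel.1 hc]
  have hL : ∀ d ∈ rel (R := R) y, Fin.append (0 : Fin n → R) d ∈ rel (R := R) w := fun d hd => by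
    rw [mem_rel, hsum]; simp [mem_rel.1 hd]
  simp only [ideal_eq_fitt w hw, ideal_eq_fitt x hx, ideal_eq_fitt y hy, fitt]
  refine le_antisymm ?_ ?_
  · have hrel : rel (R := R) w ≤ Submodule.span R
        {v | (∃ c ∈ rel (R := R) x, v = Fin.append c 0) ∨ (∃ d ∈ rel (R := R) y, v = Fin.append 0 d)} := by
      intro u hu
      rw [mem_rel, hsum, Prod.mk_eq_zero] at hu
      rw [append_split u]
      exact add_mem (Submodule.subset_span (Or.inl ⟨_, mem_rel.2 hu.1, rfl⟩))
        (Submodule.subset_span (Or.inr ⟨_, mem_rel.2 hu.2, rfl⟩))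
    refine minors_le_iff.2 fun z e hz => minor_mem_of_span e (fun v hv => ?_) fun b => hrel (hz b)
    obtain ⟨p, q, hpq, hmem⟩ := minor_split (rel (R := R) x) (rel (R := R) y) e v hv
    rcases lt_or_ge n p with hp | hp
    · rw [minors_eq_bot_of_lt _ hp, Ideal.bot_mul, Ideal.mem_bot] at hmem
      rw [hmem]; exact zero_mem _
    rcases lt_or_ge n' q with hq | hq
    · rw [minors_eq_bot_of_lt _ hq, Ideal.mul_bot, Ideal.mem_bot] at hmem
      rw [hmem]; exact zero_mem _
    have hk : min (n - p) l ∈ Finset.range (l + 1) := Finset.mem_range.2 (by omega)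
    rw [Ideal.sum_eq_sup]
    exact Finset.le_sup (f := fun k => minors (rel (R := R) x) (n - k) * minors (rel (R := R) y) (n' - (l - k))) hk
      (Ideal.mul_mono (minors_anti _ (by omega)) (minors_anti _ (by omega)) hmem)
  · rw [Ideal.sum_eq_sup, Finset.sup_le_iff]
    intro k hk
    rw [Finset.mem_range] at hk
    have hle : minors (rel (R := R) w) (n - k + (n' - (l - k))) ≤ minors (rel (R := R) w) (n + n' - l) :=
      minors_anti _ (by omega)
    refine le_trans ?_ hle
    rw [minors, minors, Ideal.span_mul_span', Ideal.span_le]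
    rintro _ ⟨_, ⟨z, e, hz, rfl⟩, _, ⟨z', e', hz', rfl⟩, rfl⟩
    exact minor_mul_mem _ _ e e' z z' hz hz' _ hK hL

end Groth.Misc3Fitt
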