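import Groth.Agent.Misc3Fitt.Local
import Groth.Agent.Misc3Fitt.Prod
import Mathlib.RingTheory.Spectrum.Prime.FreeLocus
import Mathlib.Algebra.Category.ModuleCat.ProjectiveDimension
import Mathlib.Algebra.Module.Projective
import Mathlib.Algebra.Category.ModuleCat.Projective
import Mathlib.LinearAlgebra.Matrix.ToLin

/-!
# Modules with an invertible Fitting ideal split
-/

set_option autoImplicit false

universe u v

namespace Groth.Misc3Fitt

open TensorProduct Matrix CategoryTheory

variable {R : Type u} [CommRing R]

/-- Finite locally free modules are finitely presented projective. -/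
theorem projective_of_locallyFree {N : Type v} [AddCommGroup N] [Module R N] [Module.Finite R N]
    (h : ∀ (p : Ideal R) [p.IsPrime], ∃ g : R, g ∉ p ∧
      Module.Free (Localization.Away g) (LocalizedModule (Submonoid.powers g) N)) :
    Module.FinitePresentation R N ∧ Module.Projective R N := by
  obtain ⟨n, π, hπ⟩ := Module.Finite.exists_fin' R N
  let s : Set R := {g | Module.Free (Localization.Away g) (LocalizedModule (Submonoid.powers g) N)}
  have hs : Ideal.span s = ⊤ := by
    by_contra hne
    obtain ⟨m, hm, hle⟩ := Ideal.exists_le_maximal _ hne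
    obtain ⟨g, hg, hfree⟩ := h m
    exact hg (hle (Ideal.subset_span hfree))
  have hfg : (LinearMap.ker π).FG := by
    refine Submodule.of_localizationSpan' s hs (Rₚ := fun g => Localization.Away g.1)
      (fun g => LocalizedModule.mkLinearMap (Submonoid.powers g.1) (Fin n → R)) fun g => ?_
    haveI : Module.Free (Localization.Away g.1) (LocalizedModule (Submonoid.powers g.1) N) := g.2
    haveI : Module.Finite (Localization.Away g.1) (LocalizedModule (Submonoid.powers g.1) N) :=
      Module.Finite.of_isLocalizedModule (Submonoid.powers g.1) (LocalizedModule.mkLinearMap _ N)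
    haveI : Module.Finite (Localization.Away g.1) (LocalizedModule (Submonoid.powers g.1) (Fin n → R)) :=
      Module.Finite.of_isLocalizedModule (Submonoid.powers g.1) (LocalizedModule.mkLinearMap _ _)
    haveI : Module.FinitePresentation (Localization.Away g.1) (LocalizedModule (Submonoid.powers g.1) N) :=
      Module.finitePresentation_of_projective _ _
    rw [LinearMap.localized'_ker_eq_ker_localizedMap (Localization.Away g.1) (Submonoid.powers g.1) _
      (LocalizedModule.mkLinearMap (Submonoid.powers g.1) N)]
    exact Module.FinitePresentation.fg_ker _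
      (IsLocalizedModule.map_surjective (Submonoid.powers g.1) _ _ π hπ)
  haveI : Module.FinitePresentation R N := Module.finitePresentation_of_surjective π hπ hfg
  refine ⟨inferInstance, Module.freeLocus_eq_univ_iff.1 (Set.eq_univ_of_forall fun p => ?_)⟩
  obtain ⟨g, hg, hfree⟩ := h p.asIdeal
  haveI := hfree
  exact (Module.basicOpen_subset_freeLocus_iff (f := g)).2 inferInstance hg

variable {M : Type u} [AddCommGroup M] [Module R M]

theorem ideal_quotient_eq_bot [Module.Finite R M] {f : R} (hf : f ∈ nonZeroDivisors R) (T : Submodule R M)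
    (hT : ∀ m ∈ T, f • m = 0) {j : ℕ} (h : Fitt.ideal R M j = ⊥) : Fitt.ideal R (M ⧸ T) j = ⊥ := by
  let L := Localization.Away f
  have hinj : Function.Injective (algebraMap R L) :=
    IsLocalization.injective (M := Submonoid.powers f) L (Submonoid.powers_le.2 hf)
  have h0 : (T.subtype.lTensor L) = 0 := by
    refine TensorProduct.ext' fun s t => ?_
    obtain ⟨u, hu⟩ := IsLocalization.Away.algebraMap_isUnit (S := L) f
    have hs : s = f • (s * ↑u⁻¹) := by rw [Algebra.smul_def, ← hu, mul_left_comm, Units.mul_inv, mul_one]
    rw [LinearMap.zero_apply, LinearMap.lTensor_tmul, Submodule.subtype_apply, hs, smul_tmul, hT t t.2, tmul_zero]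
  have hbij : Function.Bijective (T.mkQ.baseChange L) := by
    refine ⟨(injective_iff_map_eq_zero _).2 fun t ht => ?_, LinearMap.lTensor_surjective L T.mkQ_surjective⟩
    have hker : t ∈ LinearMap.ker (T.mkQ.lTensor L) := ht
    rw [lTensor_mkQ, LinearMap.mem_range] at hker
    obtain ⟨w, rfl⟩ := hker
    rw [h0, LinearMap.zero_apply]
  have hmap : (Fitt.ideal R (M ⧸ T) j).map (algebraMap R L) = ⊥ := by
    rw [← ideal_baseChange, ← ideal_congr (LinearEquiv.ofBijective (T.mkQ.baseChange L) hbij), ideal_baseChange,
      h, Ideal.map_bot]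
  exact (Ideal.map_eq_bot_iff_of_injective hinj).1 hmap

/-- The relation module of a module with invertible zeroth Fitting ideal is projective. -/
theorem projective_rel {f : R} (hf : f ∈ nonZeroDivisors R) {n : ℕ} (x : Fin n → M)
    (h : fitt (R := R) x 0 = Ideal.span {f}) : Module.Projective R (rel (R := R) x) := by
  classical
  let s : Set R := {d | ∃ A : Matrix (Fin n) (Fin n) R, (∀ i, A i ∈ rel (R := R) x) ∧ d = A.det}
  have hs : fitt (R := R) x 0 ≤ Ideal.span s := by
    refine minors_le_iff.2 fun z e hz => ?_
    by_cases he : Function.Injective e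
    · obtain ⟨a, ha, u, hu⟩ := minor_extend 0 z e he
      rw [hu]
      exact Ideal.mul_mem_left _ _ (Ideal.subset_span ⟨a, fun i => by
        rw [ha i i.2]; exact hz _, rfl⟩)
    · obtain ⟨i, j, hij, hne⟩ := Function.not_injective_iff.1 he
      have : minor e z = 0 := by
        rw [← minor_transpose]
        exact Matrix.det_zero_of_row_eq hne (by funext b; simp [hij])
      rw [this]
      exact zero_mem _
  obtain ⟨t, r, hr⟩ := Submodule.mem_span_set.1 (hs (h.symm ▸ Ideal.mem_span_singleton_self f : f ∈ _))
  choose A hA hdet using fun d : t.support => r d.2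
  let μ : (Fin n → R) →ₗ[R] (Fin n → R) := f • LinearMap.id
  have hμ : Function.Injective μ := fun v w hvw =>
    funext fun i => (mul_cancel_left_mem_nonZeroDivisors hf).1 (congrFun hvw i)
  let ad : t.support → rel (R := R) x →ₗ[R] (Fin n → R) := fun d =>
    (Matrix.mulVecLin (Matrix.adjugate (A d)ᵀ)).comp (rel (R := R) x).subtype
  have had : ∀ d z, ad d z ∈ LinearMap.range μ := fun d z => by
    have hmem : ∀ i, ((A d).updateRow i z).det ∈ Ideal.span {f} := fun i => by
      rw [← h]
      exact minor_mem (K := rel (R := R) x) (m := n) id fun b => by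
        rcases eq_or_ne b i with rfl | hb
        · erw [Function.update_self]; exact z.2
        · erw [Function.update_of_ne hb]; exact hA d b
    choose c hc using fun i => Ideal.mem_span_singleton'.1 (hmem i)
    refine ⟨c, funext fun i => ?_⟩
    show f * c i = (Matrix.adjugate (A d)ᵀ *ᵥ (z : Fin n → R)) i
    rw [← Matrix.cramer_eq_adjugate_mulVec, Matrix.cramer_transpose_apply, ← hc i, mul_comm]
  let σ : rel (R := R) x →ₗ[R] (t.support → Fin n → R) := LinearMap.pi fun d =>
    (LinearEquiv.ofInjective μ hμ).symm.toLinearMap.comp ((ad d).codRestrict _ (had d))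
  let π' : (t.support → Fin n → R) →ₗ[R] (Fin n → R) :=
    ∑ d : t.support, t d • ((Matrix.vecMulLinear (A d)).comp (LinearMap.proj d))
  have hπ' : ∀ v, π' v ∈ rel (R := R) x := fun v => by
    simp only [π', LinearMap.sum_apply, LinearMap.smul_apply, LinearMap.comp_apply, LinearMap.proj_apply,
      Matrix.vecMulLinear_apply, Matrix.vecMul_eq_sum]
    exact Submodule.sum_mem _ fun d _ => Submodule.smul_mem _ _
      (Submodule.sum_mem _ fun i _ => Submodule.smul_mem _ _ (hA d i))
  refine Module.Projective.of_split σ (π'.codRestrict _ hπ') (LinearMap.ext fun z => Subtype.ext (hμ ?_))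
  have hσ : ∀ d, f • σ z d = Matrix.vecMul (z : Fin n → R) (Matrix.adjugate (A d)) := fun d => by
    show μ ((LinearEquiv.ofInjective μ hμ).symm ⟨ad d z, had d z⟩) = _
    rw [← LinearEquiv.ofInjective_apply μ (h := hμ), LinearEquiv.apply_symm_apply]
    show Matrix.adjugate (A d)ᵀ *ᵥ (z : Fin n → R) = _
    rw [← Matrix.adjugate_transpose, Matrix.mulVec_transpose]
  show f • π' (σ z) = f • (z : Fin n → R)
  rw [← map_smul]
  simp only [π', LinearMap.sum_apply, LinearMap.smul_apply, LinearMap.comp_apply, LinearMap.proj_apply,
    Matrix.vecMulLinear_apply, Pi.smul_apply, hσ, Matrix.vecMul_vecMul, Matrix.adjugate_mul,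
    Matrix.vecMul_smul, Matrix.vecMul_one, smul_smul]
  rw [← Finset.sum_smul]
  congr 1
  conv_rhs => rw [← hr]
  rw [Finsupp.sum, ← Finset.sum_coe_sort t.support]
  exact Finset.sum_congr rfl fun d _ => by rw [smul_eq_mul, ← hdet d]

theorem pd_le_one_of_fitt {f : R} (hf : f ∈ nonZeroDivisors R) [Module.Finite R M]
    (h : Fitt.ideal R M 0 = Ideal.span {f}) : HasProjectiveDimensionLT (ModuleCat.of R M) 2 := by
  obtain ⟨n, x, hx⟩ := Module.Finite.exists_fin (R := R) (M := M)
  rw [ideal_eq_fitt x hx] at h
  haveI := projective_rel hf x h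
  let π := Fintype.linearCombination R x
  have hπ : Function.Surjective π := by
    rw [← LinearMap.range_eq_top, Fintype.range_linearCombination, hx]
  let S : ShortComplex (ModuleCat.{u} R) :=
    ShortComplex.mk (ModuleCat.ofHom (rel (R := R) x).subtype) (ModuleCat.ofHom π)
      (by ext v; exact v.2)
  have hS : S.ShortExact :=
    { exact := by
        rw [ShortComplex.moduleCat_exact_iff]
        intro v hv
        exact ⟨⟨v, hv⟩, rfl⟩
      mono_f := (ModuleCat.mono_iff_injective _).2 Subtype.val_injective
      epi_g := (ModuleCat.epi_iff_surjective _).2 hπ }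
  have h1 : Projective S.X₁ := (IsProjective.iff_projective (rel (R := R) x)).1 inferInstance
  have h2 : Projective S.X₂ := (IsProjective.iff_projective (Fin n → R)).1 inferInstance
  exact (hS.hasProjectiveDimensionLT_X₃_iff 0 h2).2
    (projective_iff_hasProjectiveDimensionLT_one.1 h1)

theorem pd_le_one_of_prod {P : Type u} [AddCommGroup P] [Module R P] [Module.Projective R P] {T : Submodule R M}
    [HasProjectiveDimensionLT (ModuleCat.of R T) 2] (q : M →ₗ[R] P) (hq : Function.Surjective q)
    (hker : LinearMap.ker q = T) : HasProjectiveDimensionLT (ModuleCat.of R M) 2 := by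
  let S : ShortComplex (ModuleCat.{u} R) :=
    ShortComplex.mk (ModuleCat.ofHom T.subtype) (ModuleCat.ofHom q)
      (by ext v; exact (hker.symm ▸ v.2 : (v : M) ∈ LinearMap.ker q))
  have hS : S.ShortExact :=
    { exact := by
        rw [ShortComplex.moduleCat_exact_iff]
        intro v hv
        exact ⟨⟨v, hker ▸ hv⟩, rfl⟩
      mono_f := (ModuleCat.mono_iff_injective _).2 Subtype.val_injective
      epi_g := (ModuleCat.epi_iff_surjective _).2 hq }
  have h3 : Projective S.X₃ := (IsProjective.iff_projective P).1 inferInstance
  exact hS.hasProjectiveDimensionLT_X₂ 2 inferInstance inferInstance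

end Groth.Misc3Fitt
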