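import Groth.Agent.Misc3Fitt.Local
import Groth.Agent.BlowUpBasics.AffineAlgebra
import Groth.Prelude.Def_FlatCA
import Mathlib.Algebra.Module.Torsion.Basic

/-!
# Fitting ideals of strict transforms
-/

set_option autoImplicit false

universe u v

namespace Groth.Misc3Fitt

open TensorProduct

section

variable {R : Type u} [CommRing R] {M : Type v} [AddCommGroup M] [Module R M] [Module.Finite R M]

theorem ideal_mono {k k' : ℕ} (h : k ≤ k') : Fitt.ideal R M k ≤ Fitt.ideal R M k' := by
  obtain ⟨n, x, hx⟩ := Module.Finite.exists_fin (R := R) (M := M)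
  rw [ideal_eq_fitt x hx, ideal_eq_fitt x hx]
  exact minors_anti _ (Nat.sub_le_sub_left h n)

/-- The data of a generator of the Fitting ideal. -/
structure Datum (R : Type u) [CommRing R] (M : Type v) [AddCommGroup M] [Module R M] (k : ℕ) where
  n : ℕ
  x : Fin n → M
  a : Matrix (Fin n) (Fin n) R
  hx : Submodule.span R (Set.range x) = ⊤
  ha : ∀ i : Fin n, (i : ℕ) < n - k → ∑ j, a i j • x j = 0

variable {k : ℕ}

/-- The finitely many elements of the Fitting ideal attached to a datum. -/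
def Datum.elts (D : Datum R M k) : Set R :=
  {D.a.det} ∪ (fun p : Fin D.n × Fin D.n => Matrix.adjugate D.a p.1 p.2) '' {p | ¬(p.2 : ℕ) < D.n - k}

theorem Datum.elts_subset (D : Datum R M k) : D.elts ⊆ (Fitt.ideal R M k : Set R) := by
  rintro _ (rfl | ⟨⟨l, i⟩, hi, rfl⟩)
  · exact Ideal.subset_span ⟨D.n, D.x, D.a, D.hx, D.ha, rfl⟩
  · refine Ideal.subset_span ⟨D.n, D.x, D.a.updateRow i (Pi.single l 1), D.hx, fun r hr => ?_,
      Matrix.adjugate_apply D.a l i⟩
    rw [Matrix.updateRow_ne (fun h : r = i => hi (h ▸ hr))]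
    exact D.ha r hr

theorem fitt_le_span_det : Fitt.ideal R M k ≤ Ideal.span {d | ∃ D : Datum R M k, d = D.a.det} := by
  refine Ideal.span_mono ?_
  rintro _ ⟨n, x, a, hx, ha, rfl⟩
  exact ⟨⟨n, x, a, hx, ha⟩, rfl⟩

/-- A datum whose minors are all multiples of `j`, with determinant `j * c`, shows that `c • M/T` lies
in the span of `k` elements, where `T` contains the `j`-torsion. -/
theorem Datum.exists_span_quotient (D : Datum R M k) (j c : R) (hc : D.a.det = j * c)
    (hadj : ∀ d ∈ D.elts, d ∈ Ideal.span {j}) (T : Submodule R M)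
    (hT : ∀ m : M, j • m = 0 → m ∈ T) :
    ∃ g : Fin k → M ⧸ T, ∀ l, c • T.mkQ (D.x l) ∈ Submodule.span R (Set.range g) := by
  let n := D.n
  refine ⟨fun i => if h : n - k + (i : ℕ) < n then T.mkQ (∑ l, D.a ⟨n - k + i, h⟩ l • D.x l) else 0, fun l => ?_⟩
  have ht : ∀ i : Fin n, ¬(i : ℕ) < n - k → ∃ t, Matrix.adjugate D.a l i = t * j := fun i hi =>
    (Ideal.mem_span_singleton'.1 (hadj _ (Or.inr ⟨(l, i), hi, rfl⟩))).imp fun t ht => ht.symm
  choose t ht using ht
  let y : M := ∑ i : Fin n, if h : (i : ℕ) < n - k then 0 else t i h • ∑ r, D.a i r • D.x r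
  have hy : c • D.x l - y ∈ T := by
    refine hT _ ?_
    rw [smul_sub, smul_smul, ← hc, det_smul_eq D.x D.a l, sub_eq_zero, Finset.smul_sum]
    refine Finset.sum_congr rfl fun i _ => ?_
    split_ifs with h
    · rw [D.ha i h, smul_zero, smul_zero]
    · rw [ht i h, smul_smul j, mul_comm]
  rw [← map_smul, show T.mkQ (c • D.x l) = T.mkQ y from (Submodule.Quotient.eq _).2 hy, map_sum]
  refine Submodule.sum_mem _ fun i _ => ?_
  split_ifs with h
  · rw [map_zero]; exact zero_mem _
  · rw [map_smul]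
    refine Submodule.smul_mem _ _ ?_
    obtain ⟨d, hd⟩ := Nat.exists_eq_add_of_le (not_lt.1 h)
    refine Submodule.subset_span ⟨⟨d, by have := i.2; omega⟩, ?_⟩
    simp only
    rw [dif_pos (by have := i.2; omega)]
    have : (⟨n - k + d, by have := i.2; omega⟩ : Fin n) = i := Fin.ext hd.symm
    rw [this]

/-- If the minors of data generate `(j)` with `j` a nonzerodivisor then the quotient by the `j`-torsion has
trivial Fitting ideal. -/
theorem ideal_quotient_eq_top (j : R) (hj : j ∈ nonZeroDivisors R) (T : Submodule R M)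
    (hT : ∀ m : M, j • m = 0 → m ∈ T)
    (h : j ∈ Ideal.span {d | ∃ D : Datum R M k, (∀ e ∈ D.elts, e ∈ Ideal.span {j}) ∧ d = D.a.det}) :
    Fitt.ideal R (M ⧸ T) k = ⊤ := by
  haveI : Module.Finite R (M ⧸ T) := inferInstance
  let J : Ideal R := Ideal.span {c | ∃ D : Datum R M k, (∀ e ∈ D.elts, e ∈ Ideal.span {j}) ∧ D.a.det = j * c}
  have hJ : J = ⊤ := by
    have hle : Ideal.span {d | ∃ D : Datum R M k, (∀ e ∈ D.elts, e ∈ Ideal.span {j}) ∧ d = D.a.det} ≤
        Ideal.span {j} * J := by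
      rw [Ideal.span_le]
      rintro _ ⟨D, hD, rfl⟩
      obtain ⟨c, hc⟩ := Ideal.mem_span_singleton'.1 (hD _ (Or.inl rfl))
      refine Ideal.mem_span_singleton_mul.2 ⟨c, Ideal.subset_span ⟨D, hD, ?_⟩, ?_⟩ <;> rw [← hc, mul_comm]
    obtain ⟨u, hu, huj⟩ := Ideal.mem_span_singleton_mul.1 (hle h)
    have : u = 1 := (mul_cancel_left_mem_nonZeroDivisors hj).1 (huj.trans (mul_one j).symm)
    exact (Ideal.eq_top_iff_one J).2 (this ▸ hu)
  by_contra hne
  obtain ⟨m, hm, hle⟩ := Ideal.exists_le_maximal _ hne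
  obtain ⟨c, ⟨D, hD, hc⟩, hcm⟩ : ∃ c, (∃ D : Datum R M k, (∀ e ∈ D.elts, e ∈ Ideal.span {j}) ∧ D.a.det = j * c) ∧ c ∉ m := by
    by_contra hcon
    push Not at hcon
    exact hm.ne_top (top_le_iff.1 (hJ.ge.trans (Ideal.span_le.2 fun c hc => hcon c hc)))
  obtain ⟨g, hg⟩ := D.exists_span_quotient j c hc hD T hT
  refine ((not_le_prime_iff_exists_span_away (M := M ⧸ T) m).2 ⟨c, hcm,
    LocalizedModule.mkLinearMap _ _ ∘ g, ?_⟩) hle
  let μ := LocalizedModule.mkLinearMap (Submonoid.powers c) (M ⧸ T)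
  have hx : Submodule.span R (Set.range (T.mkQ ∘ D.x)) = ⊤ := by
    rw [Set.range_comp, ← Submodule.map_span, D.hx, Submodule.map_top, Submodule.range_mkQ]
  have htop := span_eq_top_of_isLocalizedModule (Localization.Away c) (Submonoid.powers c) μ hx
  rw [eq_top_iff, ← htop, Submodule.span_le]
  rintro _ ⟨_, ⟨l, rfl⟩, rfl⟩
  obtain ⟨u, hu⟩ := IsLocalization.Away.algebraMap_isUnit (S := Localization.Away c) c
  have h1 : algebraMap R (Localization.Away c) c • μ (T.mkQ (D.x l)) ∈
      Submodule.span (Localization.Away c) (Set.range (μ ∘ g)) := by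
    rw [algebraMap_smul, ← map_smul, Set.range_comp]
    exact Submodule.span_subset_span R _ _ (by
      rw [← Submodule.map_span]; exact Submodule.mem_map_of_mem (hg l))
  have h2 := Submodule.smul_mem _ (↑u⁻¹ : Localization.Away c) h1
  rwa [← hu, smul_smul, Units.inv_mul, one_smul] at h2

end

section

variable {R : Type u} [CommRing R] {M : Type u} [AddCommGroup M] [Module R M] [Module.Finite R M]
variable (a : R) (S : Type u) [CommRing S] [Algebra R S]

theorem mem_powTorsion_of_smul {j : S} (hj : ∃ n c, (algebraMap R S a) ^ n = c * j) {m : S ⊗[R] M}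
    (hm : j • m = 0) : m ∈ FlatCA.powTorsion S (algebraMap R S a) (S ⊗[R] M) := by
  obtain ⟨n, c, hc⟩ := hj
  refine Submodule.mem_iSup_of_mem n ?_
  rw [Submodule.mem_torsionBy_iff, hc, mul_smul, hm, smul_zero]

/-- A datum pushed forward along a ring map. -/
noncomputable def Datum.baseChange {k : ℕ} (D : Datum R M k) : Datum S (S ⊗[R] M) k where
  n := D.n
  x i := 1 ⊗ₜ D.x i
  a := D.a.map (algebraMap R S)
  hx := span_one_tmul D.hx
  ha i hi := by
    simp only [Matrix.map_apply, algebraMap_smul, ← tmul_smul, ← tmul_sum, D.ha i hi, tmul_zero]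

theorem Datum.elts_baseChange {k : ℕ} (D : Datum R M k) :
    (D.baseChange S).elts ⊆ algebraMap R S '' D.elts := by
  rintro _ (rfl | ⟨p, hp, rfl⟩)
  · exact ⟨_, Or.inl rfl, RingHom.map_det (algebraMap R S) D.a⟩
  · exact ⟨_, Or.inr ⟨p, hp, rfl⟩, congrFun (congrFun ((algebraMap R S).map_adjugate D.a) p.1) p.2⟩

/-- The strict transform of a finite module has trivial Fitting ideal as soon as a finite set of
elements of the Fitting ideal becomes principal. -/
theorem ideal_strict_eq_top {k : ℕ} (j : S) (hj : j ∈ nonZeroDivisors S)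
    (hja : ∃ n c, (algebraMap R S a) ^ n = c * j) (P : Set (Datum R M k))
    (hP : ∀ D ∈ P, ∀ e ∈ D.elts, algebraMap R S e ∈ Ideal.span {j})
    (hgen : j ∈ Ideal.span ((fun D : Datum R M k => algebraMap R S D.a.det) '' P)) :
    Fitt.ideal S ((S ⊗[R] M) ⧸ FlatCA.powTorsion S (algebraMap R S a) (S ⊗[R] M)) k = ⊤ := by
  refine ideal_quotient_eq_top j hj _ (fun m hm => mem_powTorsion_of_smul a S hja hm)
    (Ideal.span_mono ?_ hgen)
  rintro _ ⟨D, hD, rfl⟩
  refine ⟨D.baseChange S, fun e he => ?_, RingHom.map_det (algebraMap R S) D.a⟩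
  obtain ⟨e, he', rfl⟩ := D.elts_baseChange S he
  exact hP D hD e he'

/-- The lower Fitting ideals of the strict transform vanish. -/
theorem ideal_strict_eq_bot {k : ℕ} (ha : algebraMap R S a ∈ nonZeroDivisors S)
    (h : ∀ (p : Ideal R) [p.IsPrime], a ∉ p → ∀ x ∈ Fitt.ideal R M k, ∃ s ∉ p, s * x = 0) :
    Fitt.ideal S ((S ⊗[R] M) ⧸ FlatCA.powTorsion S (algebraMap R S a) (S ⊗[R] M)) k = ⊥ := by
  let b := algebraMap R S a
  let T := FlatCA.powTorsion S b (S ⊗[R] M)
  let L := Localization.Away b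
  have hinj : Function.Injective (algebraMap S L) :=
    IsLocalization.injective (M := Submonoid.powers b) L (Submonoid.powers_le.2 ha)
  have h0 : (Fitt.ideal R M k).map (algebraMap R S) = ⊥ := by
    rw [Ideal.map_eq_bot_iff_le_ker]
    intro x hx
    let J : Ideal R := Submodule.colon ⊥ {x}
    have haJ : a ∈ J.radical := by
      rw [Ideal.radical_eq_sInf, Submodule.mem_sInf]
      rintro p ⟨hJp, hp⟩
      by_contra hap
      obtain ⟨s, hs, hsx⟩ := h p hap x hx
      exact hs (hJp (by simpa [J, Submodule.mem_colon] using hsx))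
    obtain ⟨n, hn⟩ := haJ
    have hax : a ^ n * x = 0 := by simpa [J, Submodule.mem_colon] using hn
    have : (algebraMap R S a) ^ n * algebraMap R S x = 0 := by rw [← map_pow, ← map_mul, hax, map_zero]
    exact (mem_nonZeroDivisors_iff_left.1 (pow_mem ha n)) _ this
  have hT : (T.subtype.lTensor L) = 0 := by
    refine TensorProduct.ext' fun s t => ?_
    obtain ⟨n, hn⟩ := (Submodule.mem_iSup_of_directed _ (Monotone.directed_le fun i l hil =>
      fun m hm => by
        rw [Submodule.mem_torsionBy_iff] at hm ⊢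
        rw [← Nat.sub_add_cancel hil, pow_add, mul_smul, hm, smul_zero])).1 t.2
    rw [Submodule.mem_torsionBy_iff] at hn
    obtain ⟨u, hu⟩ := (IsLocalization.Away.algebraMap_isUnit (S := L) b).pow n
    have hs : s = (b ^ n) • (s * ↑u⁻¹) := by
      rw [Algebra.smul_def, map_pow, ← hu, mul_left_comm, Units.mul_inv, mul_one]
    rw [LinearMap.zero_apply, LinearMap.lTensor_tmul, Submodule.subtype_apply, hs, smul_tmul, hn, tmul_zero]
  have hbij : Function.Bijective (T.mkQ.baseChange L) := by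
    refine ⟨(injective_iff_map_eq_zero _).2 fun t ht => ?_, LinearMap.lTensor_surjective L T.mkQ_surjective⟩
    have hker : t ∈ LinearMap.ker (T.mkQ.lTensor L) := ht
    rw [lTensor_mkQ, LinearMap.mem_range] at hker
    obtain ⟨w, rfl⟩ := hker
    rw [hT, LinearMap.zero_apply]
  have hmap : (Fitt.ideal S ((S ⊗[R] M) ⧸ T) k).map (algebraMap S L) = ⊥ := by
    rw [← ideal_baseChange, ← ideal_congr (LinearEquiv.ofBijective (T.mkQ.baseChange L) hbij), ideal_baseChange,
      ideal_baseChange, h0, Ideal.map_bot]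
  exact (Ideal.map_eq_bot_iff_of_injective hinj).1 hmap

end

end Groth.Misc3Fitt
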