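import Groth.Agent.Misc3Fitt.Basic
import Mathlib.LinearAlgebra.TensorProduct.RightExactness
import Mathlib.LinearAlgebra.TensorProduct.Pi
import Mathlib.LinearAlgebra.Matrix.Adjugate
import Mathlib.RingTheory.IsTensorProduct
import Mathlib.Algebra.Module.FinitePresentation
import Mathlib.LinearAlgebra.Quotient.Basic

/-!
# Basic properties of Fitting ideals: functoriality, base change, annihilator, free modules
-/

set_option autoImplicit false

universe u v

namespace Groth.Misc3Fitt

open Matrix TensorProduct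

variable {R : Type u} [CommRing R] {M : Type v} [AddCommGroup M] [Module R M]

theorem ideal_eq_top_of_span {n : ℕ} (x : Fin n → M) (hx : Submodule.span R (Set.range x) = ⊤) {k : ℕ}
    (hk : n ≤ k) : Fitt.ideal R M k = ⊤ := by
  rw [ideal_eq_fitt x hx, fitt, Nat.sub_eq_zero_of_le hk, minors_zero]

theorem ideal_mono_of_surjective [Module.Finite R M] {N : Type*} [AddCommGroup N] [Module R N]
    (f : M →ₗ[R] N) (hf : Function.Surjective f) (k : ℕ) : Fitt.ideal R M k ≤ Fitt.ideal R N k := by
  obtain ⟨n, x, hx⟩ := Module.Finite.exists_fin (R := R) (M := M)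
  have hfx : Submodule.span R (Set.range (f ∘ x)) = ⊤ := by
    rw [Set.range_comp, ← Submodule.map_span, hx, Submodule.map_top, LinearMap.range_eq_top.2 hf]
  rw [ideal_eq_fitt x hx, ideal_eq_fitt (f ∘ x) hfx]
  refine minors_mono (fun c hc => mem_rel.2 ?_) _
  simp only [Function.comp_apply, ← map_smul, ← map_sum, mem_rel.1 hc, map_zero]

theorem ideal_congr [Module.Finite R M] {N : Type*} [AddCommGroup N] [Module R N] (e : M ≃ₗ[R] N) (k : ℕ) :
    Fitt.ideal R M k = Fitt.ideal R N k := by
  haveI : Module.Finite R N := Module.Finite.equiv e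
  exact le_antisymm (ideal_mono_of_surjective e.toLinearMap e.surjective k)
    (ideal_mono_of_surjective e.symm.toLinearMap e.symm.surjective k)

theorem ideal_fg [Module.FinitePresentation R M] (k : ℕ) : (Fitt.ideal R M k).FG := by
  obtain ⟨n, x, hx⟩ := Module.Finite.exists_fin (R := R) (M := M)
  rw [ideal_eq_fitt x hx, fitt]
  refine minors_fg (Module.FinitePresentation.fg_ker (Fintype.linearCombination R x) ?_) _
  rw [← LinearMap.range_eq_top, Fintype.range_linearCombination, hx]

theorem span_one_tmul {A : Type*} [CommRing A] [Algebra R A] {n : ℕ} {x : Fin n → M}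
    (hx : Submodule.span R (Set.range x) = ⊤) :
    Submodule.span A (Set.range fun i => (1 : A) ⊗ₜ[R] x i) = ⊤ := by
  have h := Submodule.baseChange_span (R := R) (A := A) (Set.range x)
  rw [hx, Submodule.baseChange_top, ← Set.range_comp] at h
  exact h.symm

theorem rel_baseChange {A : Type*} [CommRing A] [Algebra R A] {n : ℕ} {x : Fin n → M}
    (hx : Submodule.span R (Set.range x) = ⊤) :
    rel (R := A) (fun i => (1 : A) ⊗ₜ[R] x i) =
      Submodule.span A ((fun c : Fin n → R => algebraMap R A ∘ c) '' (rel (R := R) x : Set (Fin n → R))) := by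
  classical
  refine le_antisymm (fun c hc => ?_) (Submodule.span_le.2 ?_)
  · let f := Fintype.linearCombination R x
    have hf : Function.Surjective f := by
      rw [← LinearMap.range_eq_top, Fintype.range_linearCombination, hx]
    obtain ⟨t, rfl⟩ := (TensorProduct.piScalarRight R A A (Fin n)).surjective c
    have key : ∀ t : A ⊗[R] (Fin n → R),
        (Fintype.linearCombination A (fun i => (1 : A) ⊗ₜ[R] x i)) (TensorProduct.piScalarRight R A A (Fin n) t) =
          f.lTensor A t := by
      intro t
      induction t using TensorProduct.induction_on with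
      | zero => simp
      | tmul a v =>
        simp [f, Fintype.linearCombination_apply, smul_tmul', TensorProduct.tmul_sum, smul_tmul, ← tmul_smul]
      | add s t hs ht => rw [map_add, map_add, map_add, hs, ht]
    have ht : f.lTensor A t = 0 := by rw [← key]; exact hc
    obtain ⟨w, rfl⟩ := (lTensor_exact A (f.exact_subtype_ker_map) hf t).1 ht
    clear ht hc
    induction w using TensorProduct.induction_on with
    | zero => simp
    | tmul a v =>
      have : TensorProduct.piScalarRight R A A (Fin n) ((LinearMap.ker f).subtype.lTensor A (a ⊗ₜ v)) =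
          a • (algebraMap R A ∘ (v : Fin n → R)) := by
        ext i
        simp [Algebra.smul_def, mul_comm]
      rw [this]
      exact Submodule.smul_mem _ _ (Submodule.subset_span ⟨v, v.2, rfl⟩)
    | add s t hs ht =>
      rw [map_add, map_add]
      exact add_mem hs ht
  · rintro _ ⟨c, hc, rfl⟩
    rw [SetLike.mem_coe, mem_rel]
    simp only [Function.comp_apply, algebraMap_smul, ← tmul_smul, ← tmul_sum, mem_rel.1 hc, tmul_zero]

theorem ideal_baseChange [Module.Finite R M] {A : Type*} [CommRing A] [Algebra R A] (k : ℕ) :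
    Fitt.ideal A (A ⊗[R] M) k = (Fitt.ideal R M k).map (algebraMap R A) := by
  obtain ⟨n, x, hx⟩ := Module.Finite.exists_fin (R := R) (M := M)
  rw [ideal_eq_fitt _ (span_one_tmul hx), ideal_eq_fitt x hx, fitt, fitt, rel_baseChange hx, minors_span_eq]
  conv_rhs => rw [minors, Ideal.map_span]
  congr 1
  ext d
  constructor
  · rintro ⟨z, e, hz, rfl⟩
    choose w hw hwz using hz
    refine ⟨_, ⟨w, e, hw, rfl⟩, ?_⟩
    rw [minor, minor, RingHom.map_det]
    congr 1
    ext b a
    simp [← hwz b]
  · rintro ⟨_, ⟨z, e, hz, rfl⟩, rfl⟩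
    refine ⟨fun b => algebraMap R A ∘ z b, e, fun b => ⟨z b, hz b, rfl⟩, ?_⟩
    rw [minor, minor, RingHom.map_det]
    rfl

theorem ideal_of_isBaseChange [Module.Finite R M] {A : Type*} [CommRing A] [Algebra R A] {N : Type*}
    [AddCommGroup N] [Module R N] [Module A N] [IsScalarTower R A N] {f : M →ₗ[R] N} (hf : IsBaseChange A f)
    (k : ℕ) : Fitt.ideal A N k = (Fitt.ideal R M k).map (algebraMap R A) := by
  rw [← ideal_congr hf.equiv, ideal_baseChange]

theorem ideal_localized [Module.Finite R M] (S : Submonoid R) (k : ℕ) :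
    Fitt.ideal (Localization S) (LocalizedModule S M) k =
      (Fitt.ideal R M k).map (algebraMap R (Localization S)) :=
  ideal_of_isBaseChange ((isLocalizedModule_iff_isBaseChange S (Localization S)
    (LocalizedModule.mkLinearMap S M)).1 inferInstance) k

/-- A generator of the Fitting ideal multiplies the module into the span of `k` elements. -/
theorem det_smul_eq {n : ℕ} (x : Fin n → M) (a : Matrix (Fin n) (Fin n) R) (j : Fin n) :
    a.det • x j = ∑ i, Matrix.adjugate a j i • ∑ l, a i l • x l := by
  simp only [Finset.smul_sum, smul_smul]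
  rw [Finset.sum_comm]
  simp only [← Finset.sum_smul, ← Matrix.mul_apply, Matrix.adjugate_mul]
  rw [Finset.sum_eq_single j] <;> simp +contextual [Matrix.one_apply, eq_comm]

theorem ideal_le_annihilator : Fitt.ideal R M 0 ≤ Module.annihilator R M := by
  rw [Fitt.ideal, Ideal.span_le]
  rintro _ ⟨n, x, a, hx, ha, rfl⟩
  rw [SetLike.mem_coe, Module.mem_annihilator]
  intro m
  obtain ⟨c, rfl⟩ := (Submodule.mem_span_range_iff_exists_fun R).1 (hx ▸ Submodule.mem_top : m ∈ _)
  rw [Finset.smul_sum]
  refine Finset.sum_eq_zero fun j _ => ?_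
  rw [smul_comm, det_smul_eq x a j, Finset.sum_eq_zero fun i _ => by rw [ha i (by omega), smul_zero],
    smul_zero]

/-- A unit generator of the Fitting ideal gives `k` generators. -/
theorem exists_span_of_isUnit_det {n : ℕ} (x : Fin n → M) (hx : Submodule.span R (Set.range x) = ⊤)
    (a : Matrix (Fin n) (Fin n) R) {k : ℕ} (ha : ∀ i : Fin n, (i : ℕ) < n - k → ∑ j, a i j • x j = 0)
    (hd : IsUnit a.det) : ∃ g : Fin k → M, Submodule.span R (Set.range g) = ⊤ := by
  refine ⟨fun i => if h : n - k + (i : ℕ) < n then ∑ j, a ⟨n - k + i, h⟩ j • x j else 0, ?_⟩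
  rw [eq_top_iff, ← hx, Submodule.span_le]
  rintro _ ⟨j, rfl⟩
  obtain ⟨u, hu⟩ := hd
  rw [SetLike.mem_coe, ← inv_smul_smul u (x j), Units.smul_def u, hu, det_smul_eq x a j]
  refine Submodule.smul_mem _ _ (Submodule.sum_mem _ fun i _ => Submodule.smul_mem _ _ ?_)
  by_cases hi : (i : ℕ) < n - k
  · rw [ha i hi]; exact zero_mem _
  · obtain ⟨d, hd⟩ := Nat.exists_eq_add_of_le (not_lt.1 hi)
    refine Submodule.subset_span ⟨⟨d, by omega⟩, ?_⟩
    simp only
    rw [dif_pos (by omega)]
    have : (⟨n - k + d, by omega⟩ : Fin n) = i := Fin.ext hd.symm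
    rw [this]

theorem exists_span_of_fitt_eq_top_of_local [IsLocalRing R] [Module.Finite R M] {k : ℕ}
    (h : Fitt.ideal R M k = ⊤) : ∃ g : Fin k → M, Submodule.span R (Set.range g) = ⊤ := by
  by_contra hne
  refine (IsLocalRing.maximalIdeal.isMaximal R).ne_top (top_le_iff.1 (h.ge.trans (Ideal.span_le.2 ?_)))
  rintro _ ⟨n, x, a, hx, ha, rfl⟩
  exact (IsLocalRing.mem_maximalIdeal _).2 fun hu => hne (exists_span_of_isUnit_det x hx a ha hu)

theorem ideal_of_basis {r : ℕ} (b : Module.Basis (Fin r) R M) (k : ℕ) :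
    Fitt.ideal R M k = if r ≤ k then ⊤ else ⊥ := by
  have hb := b.span_eq
  split_ifs with h
  · exact ideal_eq_top_of_span b hb h
  · have : rel (R := R) (b : Fin r → M) = ⊥ :=
      (Submodule.eq_bot_iff _).2 fun c hc =>
        funext (Fintype.linearIndependent_iff.1 b.linearIndependent c (mem_rel.1 hc))
    rw [ideal_eq_fitt b hb, fitt, this]
    obtain ⟨d, hd⟩ : ∃ d, r - k = d + 1 := ⟨r - k - 1, by omega⟩
    rw [hd, minors_bot]

end Groth.Misc3Fitt
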