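import Mathlib.LinearAlgebra.Matrix.Determinant.Basic
import Mathlib.LinearAlgebra.Multilinear.Curry
import Mathlib.LinearAlgebra.Matrix.Block
import Mathlib.RingTheory.Ideal.Operations
import Mathlib.LinearAlgebra.Pi
import Mathlib.RingTheory.Finiteness.Basic

/-!
# Ideals of minors of a submodule of `ι → R`

`minors K m` is generated by the `m × m` minors of the matrices whose rows lie in `K`.
-/

set_option autoImplicit false

universe u v w

open Matrix

namespace Groth.Misc3Fitt

section

variable {R : Type u} [CommRing R] {N : Type w} [AddCommGroup N] [Module R N]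

/-- A multilinear form with values in an ideal on generators takes values there on their span. -/
theorem multilinear_mem_of_span {P : Type v} [AddCommGroup P] [Module R P] (I : Submodule R P) {s : Set N} :
    ∀ {m : ℕ} (f : MultilinearMap R (fun _ : Fin m => N) P), (∀ v, (∀ b, v b ∈ s) → f v ∈ I) →
      ∀ v, (∀ b, v b ∈ Submodule.span R s) → f v ∈ I := by
  intro m
  induction m with
  | zero => intro f hf v _; exact hf v fun b => b.elim0
  | succ m ih =>
    intro f hf v hv
    rw [← Fin.cons_self_tail v, ← f.curryLeft_apply]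
    have h1 : ∀ a ∈ s, f.curryLeft a (Fin.tail v) ∈ I := fun a ha =>
      ih (f.curryLeft a) (fun t ht => by
        rw [f.curryLeft_apply]
        exact hf _ fun b => Fin.cases (by simpa using ha) (fun i => by simpa using ht i) b)
        (Fin.tail v) fun b => hv b.succ
    have h0 := hv 0
    generalize v 0 = a at h0 ⊢
    induction h0 using Submodule.span_induction with
    | mem a ha => exact h1 a ha
    | zero => simp
    | add a b _ _ ha hb => rw [map_add, _root_.MultilinearMap.add_apply]; exact add_mem ha hb
    | smul r a _ ha => rw [map_smul, _root_.MultilinearMap.smul_apply]; exact I.smul_mem r ha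

end

variable {R : Type u} [CommRing R] {ι κ : Type*}

/-- The minor of the rows `z` at the columns `e`. -/
def minor {α : Type*} [Fintype α] [DecidableEq α] (e : α → ι) (z : α → ι → R) : R :=
  (Matrix.of fun b a => z b (e a)).det

theorem minor_transpose {α : Type*} [Fintype α] [DecidableEq α] (e : α → ι) (z : α → ι → R) :
    (Matrix.of fun a b => z b (e a)).det = minor e z :=
  Matrix.det_transpose (Matrix.of fun b a => z b (e a))

/-- The ideal of `m × m` minors with rows in `K`. -/
def minors (K : Submodule R (ι → R)) (m : ℕ) : Ideal R :=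
  Ideal.span {d | ∃ (z : Fin m → ι → R) (e : Fin m → ι), (∀ b, z b ∈ K) ∧ d = minor e z}

theorem minor_mem {K : Submodule R (ι → R)} {m : ℕ} {z : Fin m → ι → R} (e : Fin m → ι)
    (hz : ∀ b, z b ∈ K) : minor e z ∈ minors K m :=
  Ideal.subset_span ⟨z, e, hz, rfl⟩

theorem minor_mem_of_equiv {α : Type*} [Fintype α] [DecidableEq α] {K : Submodule R (ι → R)} {m : ℕ}
    (hm : Fintype.card α = m) {z : α → ι → R} (e : α → ι) (hz : ∀ b, z b ∈ K) :
    minor e z ∈ minors K m := by
  let σ : Fin m ≃ α := (Fintype.equivFinOfCardEq hm).symm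
  have : minor e z = minor (e ∘ σ) (z ∘ σ) :=
    (Matrix.det_submatrix_equiv_self σ (Matrix.of fun b a => z b (e a))).symm
  rw [this]
  exact minor_mem _ fun b => hz _

theorem minors_le_iff {K : Submodule R (ι → R)} {m : ℕ} {I : Ideal R} :
    minors K m ≤ I ↔ ∀ (z : Fin m → ι → R) (e : Fin m → ι), (∀ b, z b ∈ K) → minor e z ∈ I := by
  refine ⟨fun h z e hz => h (minor_mem e hz), fun h => Ideal.span_le.2 ?_⟩
  rintro _ ⟨z, e, hz, rfl⟩
  exact h z e hz

theorem minors_mono {K L : Submodule R (ι → R)} (h : K ≤ L) (m : ℕ) : minors K m ≤ minors L m :=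
  minors_le_iff.2 fun _ e hz => minor_mem e fun b => h (hz b)

theorem minors_zero (K : Submodule R (ι → R)) : minors K 0 = ⊤ := by
  rw [Ideal.eq_top_iff_one]
  have := minor_mem (K := K) (m := 0) (z := fun b => b.elim0) (fun a => a.elim0) fun b => b.elim0
  rwa [minor, Matrix.det_isEmpty] at this

theorem minors_bot (m : ℕ) : minors (⊥ : Submodule R (ι → R)) (m + 1) = ⊥ := by
  rw [eq_bot_iff, minors_le_iff]
  intro z e hz
  rw [Ideal.mem_bot]
  refine Matrix.det_eq_zero_of_row_eq_zero 0 fun a => ?_
  show z 0 (e a) = 0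
  rw [(Submodule.mem_bot R).1 (hz 0)]
  rfl

theorem minors_succ_le (K : Submodule R (ι → R)) (m : ℕ) : minors K (m + 1) ≤ minors K m := by
  rw [minors_le_iff]
  intro z e hz
  rw [minor, Matrix.det_succ_row_zero]
  refine Submodule.sum_mem _ fun j _ => Ideal.mul_mem_left _ _ ?_
  exact minor_mem (z := z ∘ Fin.succ) (e ∘ j.succAbove) fun b => hz _

theorem minors_anti (K : Submodule R (ι → R)) : Antitone (minors K) :=
  antitone_nat_of_succ_le (minors_succ_le K)

/-- Minors of rows in a span are combinations of minors of the generators. -/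
theorem minor_mem_of_span {s : Set (ι → R)} {m : ℕ} (e : Fin m → ι) {I : Ideal R}
    (h : ∀ z : Fin m → ι → R, (∀ b, z b ∈ s) → minor e z ∈ I) {z : Fin m → ι → R}
    (hz : ∀ b, z b ∈ Submodule.span R s) : minor e z ∈ I :=
  multilinear_mem_of_span (P := R) I
    ((Matrix.detRowAlternating (n := Fin m) (R := R)).toMultilinearMap.compLinearMap
      fun _ => LinearMap.funLeft R R e) (fun v hv => h v hv) z hz

theorem minors_span_eq (s : Set (ι → R)) (m : ℕ) :
    minors (Submodule.span R s) m =
      Ideal.span {d | ∃ (z : Fin m → ι → R) (e : Fin m → ι), (∀ b, z b ∈ s) ∧ d = minor e z} := by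
  refine le_antisymm (minors_le_iff.2 fun z e hz => minor_mem_of_span e (fun v hv => ?_) hz) ?_
  · exact Ideal.subset_span ⟨v, e, hv, rfl⟩
  · refine Ideal.span_le.2 ?_
    rintro _ ⟨z, e, hz, rfl⟩
    exact minor_mem e fun b => Submodule.subset_span (hz b)

theorem minors_fg [Finite ι] {K : Submodule R (ι → R)} (hK : K.FG) (m : ℕ) : (minors K m).FG := by
  obtain ⟨s, rfl⟩ := hK
  rw [minors_span_eq]
  refine ⟨(Set.Finite.subset (Set.finite_range (fun p : (Fin m → s) × (Fin m → ι) =>
    minor p.2 (fun b => (p.1 b).1))) ?_).toFinset, by rw [Set.Finite.coe_toFinset]⟩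
  rintro _ ⟨z, e, hz, rfl⟩
  exact ⟨(fun b => ⟨z b, hz b⟩, e), rfl⟩

/-- Linear images have smaller ideals of minors. -/
theorem minors_map_le [Finite ι] (φ : (ι → R) →ₗ[R] (κ → R)) (K : Submodule R (ι → R)) (m : ℕ) :
    minors (K.map φ) m ≤ minors K m := by
  classical
  haveI := Fintype.ofFinite ι
  rw [minors_le_iff]
  intro z e hz
  choose w hw hwz using fun b => Submodule.mem_map.1 (hz b)
  rw [← minor_transpose]
  refine multilinear_mem_of_span (P := R) (minors K m) (s := Set.range fun j : ι => fun b => w b j)
    (Matrix.detRowAlternating (n := Fin m) (R := R)).toMultilinearMap ?_ _ fun a => ?_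
  · intro v hv
    choose e' he' using hv
    obtain rfl : v = fun a b => w b (e' a) := funext fun a => (he' a).symm
    have := minor_mem (K := K) e' hw
    rwa [← minor_transpose] at this
  · refine (Submodule.mem_span_range_iff_exists_fun R).2
      ⟨fun j => φ (Pi.single j 1) (e a), ?_⟩
    funext b
    simp only [Finset.sum_apply, Pi.smul_apply, smul_eq_mul, Matrix.of_apply, ← hwz]
    conv_rhs => rw [pi_eq_sum_univ' (w b), map_sum, Finset.sum_apply]
    exact Finset.sum_congr rfl fun j _ => by rw [map_smul, Pi.smul_apply, smul_eq_mul, mul_comm]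

theorem minors_map_equiv [Finite ι] [Finite κ] (φ : (ι → R) ≃ₗ[R] (κ → R)) (K : Submodule R (ι → R))
    (m : ℕ) : minors (K.map φ.toLinearMap) m = minors K m := by
  refine le_antisymm (minors_map_le φ.toLinearMap K m) ?_
  calc minors K m = minors ((K.map φ.toLinearMap).map φ.symm.toLinearMap) m := by
        rw [← Submodule.map_comp]; simp
    _ ≤ _ := minors_map_le _ _ m

theorem minors_comap_castSucc {n : ℕ} (K : Submodule R (Fin n → R)) (m : ℕ) :
    minors (K.comap (LinearMap.funLeft R R (Fin.castSucc : Fin n → Fin (n + 1)))) (m + 1) = minors K m := by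
  refine le_antisymm (minors_le_iff.2 fun z e hz => ?_) (minors_le_iff.2 fun z e hz => ?_)
  · have hsub : ∀ {p : ℕ} (v : Fin p → Fin (n + 1) → R) (c : Fin p → Fin (n + 1)),
        (∀ b, v b ∈ K.comap (LinearMap.funLeft R R Fin.castSucc)) → (∀ a, c a ≠ Fin.last n) →
          minor c v ∈ minors K p := fun v c hv hc => by
      choose c' hc' using fun a => Fin.exists_castSucc_eq.2 (hc a)
      have := minor_mem (K := K) (z := fun b => v b ∘ Fin.castSucc) c' hv
      simpa [minor, hc'] using this
    by_cases he : ∀ a, e a ≠ Fin.last n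
    · exact minors_succ_le K m (hsub z e hz he)
    push Not at he
    obtain ⟨a, ha⟩ := he
    by_cases hu : ∃ a', a' ≠ a ∧ e a' = Fin.last n
    · obtain ⟨a', ha', hea'⟩ := hu
      have h0 : minor e z = 0 := by
        rw [← minor_transpose]
        refine Matrix.det_zero_of_row_eq ha' (funext fun b => ?_)
        simp [ha, hea']
      rw [h0]
      exact zero_mem _
    push Not at hu
    rw [minor, Matrix.det_succ_column _ a]
    refine Submodule.sum_mem _ fun b _ => Ideal.mul_mem_left _ _ ?_
    exact hsub (z ∘ b.succAbove) (e ∘ a.succAbove) (fun b => hz _) fun i => hu _ (Fin.succAbove_ne a i)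
  · have hl : ∀ b, (Fin.snoc (fun b => Fin.snoc (z b) 0) (Pi.single (Fin.last n) 1) : Fin (m + 1) → Fin (n + 1) → R) b ∈
        K.comap (LinearMap.funLeft R R Fin.castSucc) := by
      refine Fin.lastCases ?_ (fun b => ?_)
      · rw [Submodule.mem_comap]
        convert K.zero_mem
        ext i
        simp [LinearMap.funLeft_apply, Pi.single_apply]
      · rw [Submodule.mem_comap]
        convert hz b
        ext i
        simp [LinearMap.funLeft_apply]
    have := minor_mem (Fin.snoc (fun a => (e a).castSucc) (Fin.last n) : Fin (m + 1) → Fin (n + 1)) hl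
    rw [minor, Matrix.det_succ_row _ (Fin.last m), Finset.sum_eq_single (Fin.last m)] at this
    · simpa [minor, Matrix.submatrix, Fin.succAbove_last, Function.comp_def, ← two_mul, pow_mul] using this
    · intro j _ hj
      obtain ⟨j, rfl⟩ := Fin.exists_castSucc_eq.2 hj
      simp [Pi.single_apply]
    · simp

end Groth.Misc3Fitt
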