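import Groth.Prelude.Def_Fitting
import Groth.Agent.Misc3Fitt.Minors
import Mathlib.RingTheory.Finiteness.Cardinality
import Mathlib.Algebra.BigOperators.Fin

/-!
# Fitting ideals are ideals of minors of relations, independently of the generators
-/

set_option autoImplicit false

universe u v

namespace Groth.Misc3Fitt

open Matrix

variable {R : Type u} [CommRing R] {M : Type v} [AddCommGroup M] [Module R M]

/-- The relations of a tuple. -/
def rel {n : ℕ} (x : Fin n → M) : Submodule R (Fin n → R) := LinearMap.ker (Fintype.linearCombination R x)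

theorem mem_rel {n : ℕ} {x : Fin n → M} {c : Fin n → R} : c ∈ rel x ↔ ∑ i, c i • x i = 0 := by
  rw [rel, LinearMap.mem_ker, Fintype.linearCombination_apply]

/-- The Fitting ideal computed by a tuple. -/
def fitt {n : ℕ} (x : Fin n → M) (k : ℕ) : Ideal R := minors (rel (R := R) x) (n - k)

theorem rel_snoc {n : ℕ} (x : Fin n → M) (c : Fin n → R) :
    ∃ φ : (Fin (n + 1) → R) ≃ₗ[R] (Fin (n + 1) → R),
      rel (R := R) (Fin.snoc x (∑ i, c i • x i)) =
        ((rel x).comap (LinearMap.funLeft R R (Fin.castSucc : Fin n → Fin (n + 1)))).map φ.toLinearMap := by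
  let t (d : Fin n → R) : (Fin (n + 1) → R) →ₗ[R] (Fin (n + 1) → R) :=
    LinearMap.id + (LinearMap.proj (Fin.last n)).smulRight (Fin.snoc d 0 : Fin (n + 1) → R)
  have htt : ∀ d, (t d) ∘ₗ (t (-d)) = LinearMap.id := fun d => by
    apply LinearMap.ext; intro v; funext i
    refine Fin.lastCases ?_ (fun j => ?_) i <;> simp [t]
  refine ⟨LinearEquiv.ofLinearMap (t (-c)) (t c) (by simpa using htt (-c)) (htt c), ?_⟩
  ext v
  rw [Submodule.map_equiv_eq_comap_symm, Submodule.mem_comap, Submodule.mem_comap, mem_rel, mem_rel,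
    Fin.sum_univ_castSucc]
  refine Eq.congr_left ?_
  simp [t, LinearMap.funLeft_apply, add_smul, Finset.sum_add_distrib, Finset.smul_sum, smul_smul,
    Fin.snoc_castSucc, Fin.snoc_last]

theorem fitt_snoc {n : ℕ} (x : Fin n → M) (hx : Submodule.span R (Set.range x) = ⊤) (y : M) (k : ℕ) :
    fitt (R := R) (Fin.snoc x y) k = fitt x k := by
  obtain ⟨c, rfl⟩ := (Submodule.mem_span_range_iff_exists_fun R).1 (hx ▸ Submodule.mem_top : y ∈ _)
  obtain ⟨φ, hφ⟩ := rel_snoc x c
  rcases Nat.lt_or_ge n k with hk | hk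
  · rw [fitt, fitt, Nat.sub_eq_zero_of_le hk.le, Nat.sub_eq_zero_of_le hk, minors_zero, minors_zero]
  · rw [fitt, fitt, hφ, minors_map_equiv, Nat.sub_add_comm hk, minors_comap_castSucc]

theorem span_le_span_append_left {n p : ℕ} (x : Fin n → M) (y : Fin p → M) :
    Submodule.span R (Set.range x) ≤ Submodule.span R (Set.range (Fin.append x y)) :=
  Submodule.span_mono (by rintro _ ⟨i, rfl⟩; exact ⟨Fin.castAdd p i, Fin.append_left x y i⟩)

theorem fitt_append {n : ℕ} (x : Fin n → M) (hx : Submodule.span R (Set.range x) = ⊤) (k : ℕ) :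
    ∀ {p : ℕ} (y : Fin p → M), fitt (R := R) (Fin.append x y) k = fitt x k := by
  intro p
  induction p with
  | zero =>
    intro y
    have : Fin.append x y = x := funext fun i => Fin.append_left x y i
    rw [this]
  | succ p ih =>
    intro y
    rw [← Fin.snoc_init_self y, Fin.append_snoc]
    exact (fitt_snoc _ (eq_top_iff.2 (hx.ge.trans (span_le_span_append_left x _))) _ k).trans (ih _)

theorem fitt_comp_equiv {n n' : ℕ} (x : Fin n → M) (σ : Fin n' ≃ Fin n) (k : ℕ) :
    fitt (R := R) (x ∘ σ) k = fitt x k := by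
  obtain rfl : n' = n := by simpa using Fintype.card_congr σ
  have h : rel (R := R) (x ∘ σ) = (rel x).map (LinearEquiv.funCongrLeft R R σ).toLinearMap := by
    ext v
    rw [Submodule.map_equiv_eq_comap_symm, Submodule.mem_comap, mem_rel, mem_rel]
    refine Eq.congr_left (Fintype.sum_equiv σ _ _ fun i => ?_)
    simp [LinearEquiv.funCongrLeft, LinearMap.funLeft_apply]
  rw [fitt, fitt, h, minors_map_equiv]

/-- Independence of the generators. -/
theorem fitt_eq {n p : ℕ} (x : Fin n → M) (y : Fin p → M) (hx : Submodule.span R (Set.range x) = ⊤)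
    (hy : Submodule.span R (Set.range y) = ⊤) (k : ℕ) : fitt (R := R) x k = fitt y k := by
  rw [← fitt_append x hx k y, ← fitt_append y hy k x]
  have : Fin.append y x ∘ (finAddFlip : Fin (n + p) ≃ Fin (p + n)) = Fin.append x y := by
    funext i
    refine Fin.addCases (fun a => ?_) (fun b => ?_) i <;> simp
  rw [← this, fitt_comp_equiv]

theorem det_mem_minors {n : ℕ} (K : Submodule R (Fin n → R)) : ∀ (d m : ℕ) (e : Fin (m + d) → Fin n)
    (z : Fin (m + d) → Fin n → R), (∀ i : Fin (m + d), (i : ℕ) < m → z i ∈ K) → minor e z ∈ minors K m := by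
  intro d
  induction d with
  | zero => exact fun m e z hz => minor_mem e fun i => hz i i.2
  | succ d ih =>
    intro m e z hz
    show (Matrix.of fun b a => z b (e a) : Matrix (Fin (m + d).succ) (Fin (m + d).succ) R).det ∈ _
    rw [Matrix.det_succ_row _ (Fin.last (m + d))]
    refine Submodule.sum_mem _ fun j _ => Ideal.mul_mem_left _ _ ?_
    exact ih m (e ∘ j.succAbove) (z ∘ (Fin.last (m + d)).succAbove) fun i hi =>
      hz _ (by simpa [Fin.succAbove_last] using hi)

theorem minor_extend {n : ℕ} (k : ℕ) (z : Fin (n - k) → Fin n → R) (e : Fin (n - k) → Fin n)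
    (he : Function.Injective e) :
    ∃ a : Matrix (Fin n) (Fin n) R, (∀ i : Fin n, ∀ h : (i : ℕ) < n - k, a i = z ⟨i, h⟩) ∧
      ∃ u : Rˣ, minor e z = u * a.det := by
  classical
  obtain ⟨σ, hσ⟩ : ∃ σ : Equiv.Perm (Fin n), ∀ i, σ (Fin.castLE (Nat.sub_le n k) i) = e i := by
    let e' : {i : Fin n // (i : ℕ) < n - k} ≃ {i : Fin n // i ∈ Set.range e} :=
      (Equiv.ofBijective (fun i : Fin (n - k) => (⟨Fin.castLE (Nat.sub_le n k) i, i.2⟩ : {i : Fin n // (i : ℕ) < n - k}))
        ⟨fun a b h => Fin.castLE_injective (Nat.sub_le n k) (congrArg Subtype.val h), fun i => ⟨⟨i.1, i.2⟩, rfl⟩⟩).symm.trans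
        (Equiv.ofInjective e he)
    refine ⟨e'.extendSubtype, fun i => ?_⟩
    have hi : ((Fin.castLE (Nat.sub_le n k) i : Fin n) : ℕ) < n - k := i.2
    rw [e'.extendSubtype_apply_of_mem (p := fun i : Fin n => (i : ℕ) < n - k) _ hi]
    simp [e']
  refine ⟨Matrix.of fun i => if h : (i : ℕ) < n - k then z ⟨i, h⟩ else Pi.single (σ i) 1,
    fun i h => by funext j; simp [h], ?_⟩
  refine ⟨Units.map (Int.castRingHom R).toMonoidHom (Equiv.Perm.sign σ), ?_⟩
  set a : Matrix (Fin n) (Fin n) R := Matrix.of fun i => if h : (i : ℕ) < n - k then z ⟨i, h⟩ else Pi.single (σ i) 1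
  have h1 : (a.submatrix id σ).det = (Equiv.Perm.sign σ : R) * a.det := Matrix.det_permute' σ a
  refine Eq.trans ?_ h1
  rw [Matrix.twoBlockTriangular_det (a.submatrix id σ) (fun i : Fin n => (i : ℕ) < n - k) fun i hi j hj => by
    have : i ≠ j := fun h => hi (h ▸ hj)
    simp [a, hi, this.symm]]
  have h2 : (Matrix.toSquareBlockProp (a.submatrix id σ) fun i : Fin n => ¬(i : ℕ) < n - k) = 1 := by
    ext i j
    simp [Matrix.toSquareBlockProp, a, i.2, Matrix.one_apply, Pi.single_apply, Subtype.ext_iff, eq_comm]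
  rw [h2, Matrix.det_one, mul_one, minor]
  let c : Fin (n - k) ≃ {i : Fin n // (i : ℕ) < n - k} :=
    ⟨fun i => ⟨Fin.castLE (Nat.sub_le n k) i, i.2⟩, fun i => ⟨i.1, i.2⟩, fun i => rfl, fun i => rfl⟩
  rw [← Matrix.det_submatrix_equiv_self c]
  congr 1
  ext i j
  simp [Matrix.toSquareBlockProp, a, c, hσ]

/-- The Fitting ideal is computed by any generating tuple. -/
theorem ideal_eq_fitt {n : ℕ} (x : Fin n → M) (hx : Submodule.span R (Set.range x) = ⊤) (k : ℕ) :
    Fitt.ideal R M k = fitt x k := by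
  refine le_antisymm (Ideal.span_le.2 ?_) (minors_le_iff.2 fun z e hz => ?_)
  · rintro _ ⟨p, y, a, hy, ha, rfl⟩
    rw [SetLike.mem_coe, fitt_eq x y hx hy k, fitt]
    obtain ⟨d, hd⟩ : ∃ d, p - k + d = p := ⟨_, Nat.add_sub_cancel' (Nat.sub_le p k)⟩
    have := det_mem_minors (rel (R := R) y) d (p - k) (Fin.cast hd) (fun i => a (Fin.cast hd i))
      fun i hi => mem_rel.2 (ha _ hi)
    convert this using 1
    exact (Matrix.det_submatrix_equiv_self (finCongr hd) a).symm
  · by_cases he : Function.Injective e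
    · obtain ⟨a, ha, u, hu⟩ := minor_extend k z e he
      rw [hu]
      refine Ideal.mul_mem_left _ _ (Ideal.subset_span ⟨n, x, a, hx, fun i hi => ?_, rfl⟩)
      rw [ha i hi]
      exact mem_rel.1 (hz _)
    · obtain ⟨i, j, hij, hne⟩ := Function.not_injective_iff.1 he
      have : minor e z = 0 := by
        rw [← minor_transpose]
        exact Matrix.det_zero_of_row_eq hne (by funext b; simp [hij])
      rw [this]
      exact zero_mem _

end Groth.Misc3Fitt
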