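import Groth.Agent.Misc3Fitt.Strict

/-!
# Strict transforms along affine blow-up algebras
-/

set_option autoImplicit false

universe u

namespace Groth.Misc3Fitt

open TensorProduct

variable {R : Type u} [CommRing R] {M : Type u} [AddCommGroup M] [Module R M] [Module.Finite R M]
  {I : Ideal R} {a : R} {R₁ : Type u} [CommRing R₁] [Algebra R R₁]

theorem copy_nzd (e : R₁ ≃ₐ[R] ↥(BlowUp.affineAlgebra R I a)) : algebraMap R R₁ a ∈ nonZeroDivisors R₁ := by
  rw [mem_nonZeroDivisors_iff_right]
  intro x hx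
  apply e.injective
  rw [map_zero]
  refine (mem_nonZeroDivisors_iff_right.1 (BlowUpBasics.algebraMap_self_mem_nonZeroDivisors (I := I) (a := a))) _ ?_
  rw [← e.commutes a, ← map_mul, hx, map_zero]

theorem copy_mem_span (e : R₁ ≃ₐ[R] ↥(BlowUp.affineAlgebra R I a)) {x : R} (hx : x ∈ I) :
    algebraMap R R₁ x ∈ Ideal.span {algebraMap R R₁ a} := by
  refine Ideal.mem_span_singleton'.2 ⟨e.symm (BlowUpBasics.frac I a x hx), e.injective ?_⟩
  rw [map_mul, e.apply_symm_apply, e.commutes, e.commutes, BlowUpBasics.frac_mul_algebraMap]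

/-- The strict transform along the blow-up of the Fitting ideal. -/
theorem ideal_strict_fitt_eq_top {k : ℕ} (ha : a ∈ Fitt.ideal R M k)
    (e : R₁ ≃ₐ[R] ↥(BlowUp.affineAlgebra R (Fitt.ideal R M k) a)) :
    Fitt.ideal R₁ ((R₁ ⊗[R] M) ⧸ FlatCA.powTorsion R₁ (algebraMap R R₁ a) (R₁ ⊗[R] M)) k = ⊤ := by
  refine ideal_strict_eq_top a R₁ _ (copy_nzd e) ⟨1, 1, by simp⟩ Set.univ
    (fun D _ d hd => copy_mem_span e (D.elts_subset hd)) ?_
  have := Ideal.mem_map_of_mem (algebraMap R R₁) (fitt_le_span_det ha)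
  rw [Ideal.map_span] at this
  refine Ideal.span_mono ?_ this
  rintro _ ⟨_, ⟨D, rfl⟩, rfl⟩
  exact ⟨D, trivial, rfl⟩

theorem exists_smul_eq_zero_of_free {k r : ℕ} (hk : k < r) (p : Ideal R) [p.IsPrime]
    (hfree : Module.Free (Localization.AtPrime p) (LocalizedModule p.primeCompl M))
    (hr : Module.finrank (Localization.AtPrime p) (LocalizedModule p.primeCompl M) = r) {x : R}
    (hx : x ∈ Fitt.ideal R M k) : ∃ s ∉ p, s * x = 0 := by
  haveI := hfree
  haveI : Module.Finite (Localization.AtPrime p) (LocalizedModule p.primeCompl M) :=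
    Module.Finite.of_isLocalizedModule p.primeCompl (LocalizedModule.mkLinearMap p.primeCompl M)
  have h := ideal_localized (M := M) p.primeCompl k
  rw [ideal_of_basis (Module.finBasisOfFinrankEq _ _ hr), if_neg (not_le.2 hk)] at h
  have h0 : algebraMap R (Localization.AtPrime p) x = 0 :=
    (Submodule.eq_bot_iff _).1 h.symm _ (Ideal.mem_map_of_mem _ hx)
  obtain ⟨⟨s, hs⟩, hsx⟩ := (IsLocalization.map_eq_zero_iff p.primeCompl _ _).1 h0
  exact ⟨s, hs, hsx⟩

theorem exists_smul_eq_zero_of_free_away {k r : ℕ} (hk : k < r) (p : Ideal R) [hp : p.IsPrime] (g : R) (hg : g ∉ p)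
    (hfree : Module.Free (Localization.Away g) (LocalizedModule (Submonoid.powers g) M))
    (hr : Module.finrank (Localization.Away g) (LocalizedModule (Submonoid.powers g) M) = r) {x : R}
    (hx : x ∈ Fitt.ideal R M k) : ∃ s ∉ p, s * x = 0 := by
  haveI := hfree
  haveI := nontrivial_away hg
  haveI : Module.Finite (Localization.Away g) (LocalizedModule (Submonoid.powers g) M) :=
    Module.Finite.of_isLocalizedModule (Submonoid.powers g) (LocalizedModule.mkLinearMap _ M)
  have h := ideal_localized (M := M) (Submonoid.powers g) k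
  rw [ideal_of_basis (Module.finBasisOfFinrankEq _ _ hr), if_neg (not_le.2 hk)] at h
  have h0 : algebraMap R (Localization.Away g) x = 0 :=
    (Submodule.eq_bot_iff _).1 h.symm _ (Ideal.mem_map_of_mem _ hx)
  obtain ⟨⟨_, n, rfl⟩, hsx⟩ := (IsLocalization.map_eq_zero_iff (Submonoid.powers g) _ _).1 h0
  exact ⟨g ^ n, fun h => hg (hp.mem_of_pow_mem n h), hsx⟩

/-- The datum with the same relations and unit vectors in the other rows. -/
def Datum.member {k : ℕ} (D : Datum R M k) (σ : Fin D.n → Fin D.n) : Datum R M k where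
  n := D.n
  x := D.x
  a := Matrix.of fun i => if (i : ℕ) < D.n - k then D.a i else Pi.single (σ i) 1
  hx := D.hx
  ha i hi := by simpa [hi] using D.ha i hi

theorem Datum.elts_member {k : ℕ} (D : Datum R M k) (σ : Fin D.n → Fin D.n) {e : R}
    (he : e ∈ (D.member σ).elts) : ∃ σ', e = (D.member σ').a.det := by
  rcases he with rfl | ⟨⟨l, i⟩, hi, rfl⟩
  · exact ⟨σ, rfl⟩
  · refine ⟨Function.update σ i l, (Matrix.adjugate_apply (D.member σ).a l i).trans (congrArg Matrix.det ?_)⟩
    ext r c
    have hi' : ¬(i : ℕ) < D.n - k := hi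
    rcases eq_or_ne r i with rfl | hri
    · rw [Matrix.updateRow_self]
      simp [Datum.member, hi']
      rfl
    · rw [Matrix.updateRow_ne hri]
      simp [Datum.member]
      erw [Function.update_of_ne hri]

/-- A multilinear form with values in a submodule on generators, with varying generators. -/
theorem multilinear_mem_of_span_dep {N P : Type*} [AddCommGroup N] [Module R N] [AddCommGroup P] [Module R P]
    (I : Submodule R P) : ∀ {m : ℕ} (s : Fin m → Set N) (f : MultilinearMap R (fun _ : Fin m => N) P),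
      (∀ v, (∀ b, v b ∈ s b) → f v ∈ I) → ∀ v, (∀ b, v b ∈ Submodule.span R (s b)) → f v ∈ I := by
  intro m
  induction m with
  | zero => intro s f hf v _; exact hf v fun b => b.elim0
  | succ m ih =>
    intro s f hf v hv
    rw [← Fin.cons_self_tail v, ← f.curryLeft_apply]
    have h1 : ∀ a ∈ s 0, f.curryLeft a (Fin.tail v) ∈ I := fun a ha =>
      ih (s ∘ Fin.succ) (f.curryLeft a) (fun t ht => by
        rw [f.curryLeft_apply]
        exact hf _ fun b => Fin.cases (by simpa using ha) (fun i => by simpa using ht i) b)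
        (Fin.tail v) fun b => hv b.succ
    have h0 := hv 0
    generalize v 0 = a at h0 ⊢
    induction h0 using Submodule.span_induction with
    | mem a ha => exact h1 a ha
    | zero => simp
    | add a b _ _ ha hb => rw [map_add, MultilinearMap.add_apply]; exact add_mem ha hb
    | smul r a _ ha => rw [map_smul, MultilinearMap.smul_apply]; exact I.smul_mem r ha

theorem Datum.det_mem_span_members {k : ℕ} (D : Datum R M k) :
    D.a.det ∈ Ideal.span (Set.range fun σ => (D.member σ).a.det) := by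
  classical
  refine multilinear_mem_of_span_dep (P := R) (N := Fin D.n → R) _
    (fun i => if (i : ℕ) < D.n - k then {D.a i} else Set.range fun l => (Pi.single l 1 : Fin D.n → R))
    (Matrix.detRowAlternating (n := Fin D.n) (R := R)).toMultilinearMap (fun v hv => ?_) D.a fun i => ?_
  · have hσ : ∀ i : Fin D.n, ∃ l, ¬(i : ℕ) < D.n - k → v i = Pi.single l 1 := fun i => by
      by_cases h : (i : ℕ) < D.n - k
      · exact ⟨i, fun h' => absurd h h'⟩
      · have := hv i
        rw [if_neg h] at this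
        obtain ⟨l, hl⟩ := this
        exact ⟨l, fun _ => hl.symm⟩
    choose σ hσ using hσ
    refine Ideal.subset_span ⟨σ, congrArg Matrix.det ?_⟩
    funext i
    by_cases h : (i : ℕ) < D.n - k
    · have := hv i
      rw [if_pos h] at this
      exact ((if_pos h).trans (Set.mem_singleton_iff.1 this).symm : _ = v i)
    · exact ((if_neg h).trans (hσ i h).symm : _ = v i)
  · split_ifs with h
    · exact Submodule.subset_span rfl
    · refine (Submodule.mem_span_range_iff_exists_fun R).2 ⟨D.a i, ?_⟩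
      ext l
      simp [Finset.sum_apply, Pi.single_apply]

/-- Elements of the Fitting ideal that suffice to make the strict transform locally free. -/
theorem exists_strict_ideal (f : R) (r : ℕ)
    (hf : ∀ (p : Ideal R) [p.IsPrime], f ∉ p → ∃ g : R, g ∉ p ∧
      Module.Free (Localization.Away g) (LocalizedModule (Submonoid.powers g) M) ∧
        Module.finrank (Localization.Away g) (LocalizedModule (Submonoid.powers g) M) = r) :
    ∃ I : Ideal R, I.FG ∧ I.radical = (Ideal.span {f}).radical ∧ ∀ a ∈ I, ∀ (R₁ : Type u) [CommRing R₁]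
      [Algebra R R₁] (_ : R₁ ≃ₐ[R] ↥(BlowUp.affineAlgebra R I a)),
      (∀ k, k < r → Fitt.ideal R₁ ((R₁ ⊗[R] M) ⧸ FlatCA.powTorsion R₁ (algebraMap R R₁ a) (R₁ ⊗[R] M)) k = ⊥) ∧
      Fitt.ideal R₁ ((R₁ ⊗[R] M) ⧸ FlatCA.powTorsion R₁ (algebraMap R R₁ a) (R₁ ⊗[R] M)) r = ⊤ := by
  classical
  have hrad : f ∈ (Fitt.ideal R M r).radical := by
    rw [Ideal.radical_eq_sInf, Submodule.mem_sInf]
    rintro p ⟨hle, hp⟩
    by_contra hfp
    obtain ⟨g, hg, hfree, hr⟩ := hf p hfp
    haveI := hfree
    haveI := nontrivial_away hg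
    haveI : Module.Finite (Localization.Away g) (LocalizedModule (Submonoid.powers g) M) :=
      Module.Finite.of_isLocalizedModule (Submonoid.powers g) (LocalizedModule.mkLinearMap _ M)
    have h := ideal_localized (M := M) (Submonoid.powers g) r
    rw [ideal_of_basis (Module.finBasisOfFinrankEq _ _ hr), if_pos le_rfl] at h
    exact not_le_of_map_away_eq_top hg h.symm hle
  obtain ⟨N, hN⟩ := hrad
  obtain ⟨s, hs, hfs⟩ := Submodule.mem_span_finite_of_mem_span (fitt_le_span_det hN)
  choose D hD using fun d : s => hs d.2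
  let A : Set R := ⋃ d : s, Set.range fun σ => ((D d).member σ).a.det
  have hA : A.Finite := Set.finite_iUnion fun d => Set.finite_range _
  let J : Ideal R := Ideal.span A
  have hle : (↑s : Set R) ⊆ J := fun d hd => by
    have h := Ideal.span_mono (Set.subset_iUnion (fun d : s => Set.range fun σ => ((D d).member σ).a.det) ⟨d, hd⟩)
      (D ⟨d, hd⟩).det_mem_span_members
    rw [← hD ⟨d, hd⟩] at h
    exact h
  have hNJ : f ^ N ∈ J := Submodule.span_le.2 hle hfs
  refine ⟨Ideal.span {f} * J, (Submodule.fg_span_singleton f).mul (Submodule.fg_span hA),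
    le_antisymm (Ideal.radical_mono Ideal.mul_le_left) ?_, ?_⟩
  · rw [Ideal.radical_le_radical_iff, Ideal.span_singleton_le_iff_mem]
    exact ⟨N + 1, by rw [pow_succ']; exact Ideal.mul_mem_mul (Ideal.mem_span_singleton_self f) hNJ⟩
  intro a ha R₁ _ _ e
  have hnzd := copy_nzd e
  obtain ⟨c, hcJ, hca⟩ := Ideal.mem_span_singleton_mul.1 ha
  constructor
  · intro k hk
    refine ideal_strict_eq_bot a R₁ hnzd fun p _ hap x hx => ?_
    obtain ⟨g, hg, hfree, hr⟩ := hf p fun hfp => hap (hca ▸ p.mul_mem_right c hfp)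
    exact exists_smul_eq_zero_of_free_away hk p g hg hfree hr hx
  have hfnzd : algebraMap R R₁ f ∈ nonZeroDivisors R₁ ∧ algebraMap R R₁ c ∈ nonZeroDivisors R₁ := by
    rwa [← mul_mem_nonZeroDivisors, ← map_mul, hca]
  have hdiv : ∀ d ∈ A, algebraMap R R₁ d ∈ Ideal.span {algebraMap R R₁ c} := by
    intro d hd
    obtain ⟨t, ht⟩ := Ideal.mem_span_singleton'.1
      (copy_mem_span e (Ideal.mul_mem_mul (Ideal.mem_span_singleton_self f) (Ideal.subset_span hd : d ∈ J)))
    refine Ideal.mem_span_singleton'.2 ⟨t, (mul_cancel_left_mem_nonZeroDivisors hfnzd.1).1 ?_⟩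
    rw [← map_mul, ← ht, ← hca, map_mul]
    ring
  refine ideal_strict_eq_top a R₁ (algebraMap R R₁ c) hfnzd.2
    ⟨1, algebraMap R R₁ f, by rw [pow_one, ← map_mul, hca]⟩
    {E | ∀ x ∈ E.elts, algebraMap R R₁ x ∈ Ideal.span {algebraMap R R₁ c}} (fun E hE => hE) ?_
  have h := Ideal.mem_map_of_mem (algebraMap R R₁) hcJ
  rw [Ideal.map_span] at h
  refine Ideal.span_mono ?_ h
  rintro _ ⟨_, hd, rfl⟩
  obtain ⟨d, σ, rfl⟩ := Set.mem_iUnion.1 hd
  refine ⟨(D d).member σ, fun x hx => ?_, rfl⟩
  obtain ⟨σ', rfl⟩ := (D d).elts_member σ hx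
  exact hdiv _ (Set.mem_iUnion.2 ⟨d, σ', rfl⟩)

end Groth.Misc3Fitt
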